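import Mathlib
import Cfsg.Agent.GaloisAverage.Criterion
import Cfsg.Agent.Characters.Generalized

/-!
# Weight families for the real vector criterion

`IsGal n f`: the values `f k`, `k` prime to `n`, are Galois conjugate algebraic integers.
`IntVirt F`: `F` is a combination of irreducible characters with algebraic integer coefficients.
`IsBetaFamily`: functions `β k` on `H` with both properties, with `‖β k h‖² * c h = N` and
`β 1 h ∈ M` outside the kernel.  `class_number_le_of_family` turns such a family into `k(X) ≤ |V|`.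
-/

set_option autoImplicit false

namespace CfsgLib.GaloisAverage

open Polynomial CfsgLib.Characters Cfsg
open scoped ComplexConjugate

/-- Galois conjugate algebraic integers indexed by the exponents prime to `n`. -/
def IsGal (n : ℕ) (f : ℕ → ℂ) : Prop :=
  ∃ q : ℕ, 0 < q ∧ ∃ P : ℤ[X], ∀ k : ℕ, k.Coprime n → (q : ℂ) * f k = aeval (stdRoot n ^ k) P

variable {n : ℕ}

theorem IsCyc.isGal {f : ℕ → ℂ} (hf : IsCyc n f) : IsGal n f := by
  obtain ⟨P, hP⟩ := hf
  exact ⟨1, one_pos, P, fun k _ => by rw [Nat.cast_one, one_mul, hP]⟩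

theorem IsGal.mul {f g : ℕ → ℂ} (hf : IsGal n f) (hg : IsGal n g) :
    IsGal n (fun k => f k * g k) := by
  obtain ⟨q, hq, P, hP⟩ := hf; obtain ⟨r, hr, Q, hQ⟩ := hg
  refine ⟨q * r, Nat.mul_pos hq hr, P * Q, fun k hk => ?_⟩
  rw [map_mul, ← hP k hk, ← hQ k hk]; push_cast; ring

theorem IsGal.add {f g : ℕ → ℂ} (hf : IsGal n f) (hg : IsGal n g) :
    IsGal n (fun k => f k + g k) := by
  obtain ⟨q, hq, P, hP⟩ := hf; obtain ⟨r, hr, Q, hQ⟩ := hg
  refine ⟨q * r, Nat.mul_pos hq hr, C (r : ℤ) * P + C (q : ℤ) * Q, fun k hk => ?_⟩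
  rw [map_add, map_mul, map_mul, ← hP k hk, ← hQ k hk, aeval_C, aeval_C]
  simp only [eq_intCast, Int.cast_natCast]
  push_cast; ring

theorem IsGal.congr {f g : ℕ → ℂ} (hf : IsGal n f) (h : ∀ k, k.Coprime n → f k = g k) :
    IsGal n g := by
  obtain ⟨q, hq, P, hP⟩ := hf
  exact ⟨q, hq, P, fun k hk => by rw [← h k hk, hP k hk]⟩

theorem isGal_sum {ι : Type*} (s : Finset ι) (f : ι → ℕ → ℂ) (h : ∀ i ∈ s, IsGal n (f i)) :
    IsGal n (fun k => ∑ i ∈ s, f i k) := by
  classical
  induction s using Finset.induction with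
  | empty => exact (isCyc_natConst 0).isGal.congr fun k _ => by simp
  | insert a s ha ih =>
    exact ((h a (Finset.mem_insert_self a s)).add
      (ih fun i hi => h i (Finset.mem_insert_of_mem hi))).congr fun k _ => by
        rw [Finset.sum_insert ha]

theorem isGal_natInv {m : ℕ} (hm : 0 < m) : IsGal n (fun _ => (m : ℂ)⁻¹) :=
  ⟨m, hm, 1, fun _ _ => by rw [mul_inv_cancel₀ (Nat.cast_ne_zero.2 hm.ne'), map_one]⟩

/-- Galois conjugate algebraic integers with a nonzero member have mean square at least one. -/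
theorem totient_le_sum_gal (hn : 0 < n) {f : ℕ → ℂ} (hf : IsGal n f)
    (hint : ∀ k ∈ totatives n, IsIntegral ℤ (f k)) (h : f 1 ≠ 0) :
    (n.totient : ℝ) ≤ ∑ k ∈ totatives n, ‖f k‖ ^ 2 := by
  classical
  obtain ⟨q, hq, P, hP⟩ := hf
  have hq0 : (q : ℂ) ≠ 0 := Nat.cast_ne_zero.2 hq.ne'
  have hζ := isPrimitiveRoot_stdRoot hn
  have : NeZero n := ⟨hn.ne'⟩
  have hne : ∀ k ∈ totatives n, f k ≠ 0 := fun k hk h0 => by
    have h1 := hP k (mem_totatives.1 hk).2
    rw [h0, mul_zero] at h1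
    refine aeval_ne_zero_of_primitive hn P hζ (hζ.pow_of_coprime k (mem_totatives.1 hk).2) ?_ h1.symm
    have h2 := hP 1 (Nat.coprime_one_left n)
    rw [pow_one] at h2
    rw [← h2]
    exact mul_ne_zero hq0 h
  have hint' : IsIntegral ℤ (∏ k ∈ totatives n, f k) := IsIntegral.prod _ hint
  have hrat : ∃ r : ℚ, ∏ μ ∈ primitiveRoots n ℂ, aeval μ P = (r : ℂ) := by
    let K := CyclotomicField n ℚ
    have : IsCyclotomicExtension {n} ℚ K := CyclotomicField.isCyclotomicExtension n ℚ
    have : FiniteDimensional ℚ K := IsCyclotomicExtension.finiteDimensional {n} ℚ K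
    have hirr := Polynomial.cyclotomic.irreducible_rat hn
    have hz : IsPrimitiveRoot (IsCyclotomicExtension.zeta n ℚ K) n :=
      IsCyclotomicExtension.zeta_spec n ℚ K
    refine ⟨Algebra.norm ℚ (aeval (IsCyclotomicExtension.zeta n ℚ K) P), ?_⟩
    rw [← eq_ratCast (algebraMap ℚ ℂ), Algebra.norm_eq_prod_embeddings,
      ← Finset.prod_coe_sort (primitiveRoots n ℂ) (fun μ => aeval μ P)]
    refine (Fintype.prod_equiv (hz.embeddingsEquivPrimitiveRoots ℂ hirr) _ _ fun σ => ?_).symm
    rw [hz.embeddingsEquivPrimitiveRoots_apply_coe]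
    exact (aeval_algHom_apply (σ.restrictScalars ℤ) _ P).symm
  have hprod : ∏ k ∈ totatives n, aeval (stdRoot n ^ k) P =
      ∏ μ ∈ primitiveRoots n ℂ, aeval μ P := by
    refine Finset.prod_bij (fun k _ => stdRoot n ^ k) (fun k hk => ?_) (fun a ha b hb e => ?_)
      (fun μ hμ => ?_) (fun _ _ => rfl)
    · exact (mem_primitiveRoots hn).2 (hζ.pow_of_coprime k (mem_totatives.1 hk).2)
    · exact hζ.pow_inj (mem_totatives.1 ha).1 (mem_totatives.1 hb).1 e
    · obtain ⟨i, hi, rfl⟩ := hζ.eq_pow_of_pow_eq_one ((mem_primitiveRoots hn).1 hμ).pow_eq_one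
      exact ⟨i, mem_totatives.2 ⟨hi, (hζ.pow_iff_coprime hn i).1 ((mem_primitiveRoots hn).1 hμ)⟩, rfl⟩
  obtain ⟨r, hr⟩ := hrat
  have hrat' : ∏ k ∈ totatives n, f k = ((r / (q : ℚ) ^ (totatives n).card : ℚ) : ℂ) := by
    push_cast
    rw [← hr, ← hprod, ← Finset.prod_congr rfl fun k hk => hP k (mem_totatives.1 hk).2,
      Finset.prod_mul_distrib, Finset.prod_const, mul_div_assoc]
    field_simp
  obtain ⟨z, hz⟩ := exists_int_of_isIntegral_ratCast (hrat' ▸ hint')
  rw [← hrat'] at hz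
  have hz0 : z ≠ 0 := fun h0 => by
    rw [h0, Int.cast_zero] at hz
    exact Finset.prod_ne_zero_iff.2 hne hz
  rw [← card_totatives]
  refine card_le_sum_of_one_le_prod _ _ (fun k hk => by have := norm_pos_iff.2 (hne k hk); positivity) ?_
  rw [Finset.prod_pow, ← norm_prod, hz, Complex.norm_intCast]
  exact one_le_pow₀ (by exact_mod_cast Int.one_le_abs hz0)

/-! ### Integral combinations of characters -/

section IntVirt

universe u
variable {H : Type u} [Group H] [Fintype H]

/-- A combination of irreducible characters with algebraic integer coefficients. -/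
def IntVirt (F : H → ℂ) : Prop :=
  Cfsg.IsClassFunction H F ∧ ∀ φ : Cfsg.IrrCharacter H,
    IsIntegral ℤ (Cfsg.classInner F (φ : H → ℂ))

theorem intVirt_of_isCharacter {F : H → ℂ} (h : Cfsg.IsCharacter H F) : IntVirt F := by
  refine ⟨isClassFunction_of_isCharacter h, fun φ => ?_⟩
  obtain ⟨m, hm⟩ := classInner_character_irr h φ.2
  rw [hm]
  exact_mod_cast (isIntegral_algebraMap (R := ℤ) (A := ℂ) (x := (m : ℤ)))

theorem IntVirt.add {F F' : H → ℂ} (h : IntVirt F) (h' : IntVirt F') :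
    IntVirt (fun x => F x + F' x) := by
  refine ⟨fun g x => by simp only [h.1 g x, h'.1 g x], fun φ => ?_⟩
  rw [show (fun x => F x + F' x) = F + F' from rfl, classInner_add_left]
  exact (h.2 φ).add (h'.2 φ)

theorem IntVirt.smul {F : H → ℂ} (h : IntVirt F) {c : ℂ} (hc : IsIntegral ℤ c) :
    IntVirt (fun x => c * F x) := by
  refine ⟨fun g x => by simp only [h.1 g x], fun φ => ?_⟩
  rw [show (fun x => c * F x) = c • F from rfl, classInner_smul_left]
  exact hc.mul (h.2 φ)

theorem intVirt_sum {ι : Type*} (s : Finset ι) (F : ι → H → ℂ) (h : ∀ i ∈ s, IntVirt (F i)) :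
    IntVirt (fun x => ∑ i ∈ s, F i x) := by
  refine ⟨fun g x => Finset.sum_congr rfl fun i hi => (h i hi).1 g x, fun φ => ?_⟩
  rw [show (fun x => ∑ i ∈ s, F i x) = ∑ i ∈ s, F i from funext fun x => (Finset.sum_apply x s F).symm,
    classInner_sum_left]
  exact IsIntegral.sum _ fun i hi => (h i hi).2 φ

theorem IntVirt.mul {F F' : H → ℂ} (h : IntVirt F) (h' : IntVirt F') :
    IntVirt (fun x => F x * F' x) := by
  classical
  have e : (fun x => F x * F' x) = fun x => ∑ φ : Cfsg.IrrCharacter H, ∑ ψ : Cfsg.IrrCharacter H,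
      (Cfsg.classInner F (φ : H → ℂ) * Cfsg.classInner F' (ψ : H → ℂ)) *
        ((φ : H → ℂ) x * (ψ : H → ℂ) x) := by
    funext x
    conv_lhs => rw [classFunction_expansion h.1, classFunction_expansion h'.1]
    simp only [Finset.sum_apply, Pi.smul_apply, smul_eq_mul, Finset.sum_mul_sum]
    exact Finset.sum_congr rfl fun _ _ => Finset.sum_congr rfl fun _ _ => by ring
  rw [e]
  exact intVirt_sum _ _ fun φ _ => intVirt_sum _ _ fun ψ _ =>
    (intVirt_of_isCharacter (isCharacter_mul (isCharacter_of_isIrr φ.2)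
      (isCharacter_of_isIrr ψ.2))).smul ((h.2 φ).mul (h'.2 ψ))

/-- A class function with algebraic integer values, multiplied by the order. -/
theorem intVirt_card_mul {F : H → ℂ} (hF : Cfsg.IsClassFunction H F)
    (h : ∀ x, IsIntegral ℤ (F x)) : IntVirt (fun x => (Nat.card H : ℂ) * F x) := by
  refine ⟨fun g x => by simp only [hF g x], fun φ => ?_⟩
  rw [Cfsg.classInner, Finset.mul_sum]
  refine IsIntegral.sum _ fun x _ => ?_
  rw [← mul_assoc, ← mul_assoc, inv_mul_cancel₀ natCard_ne_zero, one_mul,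
    ← character_inv (isCharacter_of_isIrr φ.2)]
  exact (h x).mul (character_isIntegral (isCharacter_of_isIrr φ.2) _)

/-- If `π F` is an integral combination and `π` is a character with values prime to the order,
then so is `F`, provided that its values are algebraic integers. -/
theorem intVirt_of_mul {F : H → ℂ} (hF : Cfsg.IsClassFunction H F)
    (hint : ∀ x, IsIntegral ℤ (F x)) (π : H → ℕ) (hπc : Cfsg.IsCharacter H (fun x => (π x : ℂ)))
    (hπ : ∀ x, (π x).Coprime (Nat.card H)) (h : IntVirt (fun x => (π x : ℂ) * F x)) :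
    IntVirt F := by
  classical
  set L := (Nat.card H).totient
  have hL : 0 < L := Nat.totient_pos.2 Nat.card_pos
  have hcl : ∀ g x, π (g * x * g⁻¹) = π x := fun g x =>
    Nat.cast_injective (R := ℂ) (isClassFunction_of_isCharacter hπc x g)
  -- `π ^ L = 1 + |H| m`
  have hm : ∀ x, ∃ m : ℤ, ((π x : ℤ)) ^ L = 1 + (Nat.card H : ℤ) * m := fun x => by
    have h1 := Nat.modEq_iff_dvd.1 (Nat.ModEq.pow_totient (hπ x)).symm
    obtain ⟨m, hm⟩ := h1
    push_cast at hm
    exact ⟨m, by linarith⟩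
  choose m hm using hm
  have hp : ∀ j : ℕ, IntVirt (fun x => ((π x : ℂ)) ^ j) := by
    intro j
    induction j with
    | zero => simpa using intVirt_of_isCharacter (H := H) isCharacter_one
    | succ j ih => simpa only [pow_succ] using ih.mul (intVirt_of_isCharacter hπc)
  have e : F = fun x => ((π x : ℂ)) ^ (L - 1) * ((π x : ℂ) * F x) +
      (-1) * ((Nat.card H : ℂ) * ((m x : ℂ) * F x)) := by
    funext x
    have h1 : ((π x : ℂ)) ^ L = 1 + (Nat.card H : ℂ) * (m x : ℂ) := by exact_mod_cast hm x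
    rw [← mul_assoc, ← pow_succ, Nat.sub_add_cancel hL, h1]
    ring
  rw [e]
  refine ((hp _).mul h).add ((intVirt_card_mul ?_ ?_).smul isIntegral_one.neg)
  · intro x g
    have h1 := hm (g * x * g⁻¹)
    rw [hcl, hm x] at h1
    have h2 : (Nat.card H : ℤ) * m x = (Nat.card H : ℤ) * m (g * x * g⁻¹) := by linarith
    simp only [hF x g, mul_left_cancel₀ (Nat.cast_ne_zero.2 Nat.card_pos.ne') h2]
  · exact fun x => (isIntegral_algebraMap (R := ℤ) (A := ℂ) (x := m x)).mul (hint x)

end IntVirt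

/-! ### Families -/

section Family

universe u
variable {H : Type u} [Group H] [Fintype H]

/-- A weight family on `H` for the orbit sizes `N / c h`. -/
structure IsBetaFamily (n : ℕ) (M : Ideal AlgInt) (c : H → ℕ) (N : ℕ) (β : ℕ → H → ℂ) : Prop where
  gal : ∀ h : H, IsGal n (fun k => β k (h ^ k))
  virt : ∀ k : ℕ, k.Coprime n → IntVirt (β k)
  norm_sq : ∀ k : ℕ, k.Coprime n → ∀ h, ‖β k h‖ ^ 2 * c h = N
  one : β 1 1 = 1
  integral : ∀ h, IsIntegral ℤ (β 1 h)
  mem : ∀ h, c h ≠ N → ∃ b ∈ M, (b : ℂ) = β 1 h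

theorem IsBetaFamily.mul {M : Ideal AlgInt} {c c' : H → ℕ} {N N' : ℕ} {β β' : ℕ → H → ℂ}
    (h : IsBetaFamily n M c N β) (h' : IsBetaFamily n M c' N' β') :
    IsBetaFamily n M (fun x => c x * c' x) (N * N') (fun k x => β k x * β' k x) where
  gal x := (h.gal x).mul (h'.gal x)
  virt k hk := (h.virt k hk).mul (h'.virt k hk)
  norm_sq k hk x := by
    push_cast
    rw [← h.norm_sq k hk x, ← h'.norm_sq k hk x, norm_mul]; ring
  one := by simp only [h.one, h'.one, one_mul]
  integral x := (h.integral x).mul (h'.integral x)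
  mem x hx := by
    by_cases hc : c x = N
    · obtain ⟨b, hb, e⟩ := h'.mem x fun hc' => hx (by simp only [hc, hc'])
      exact ⟨⟨β 1 x, h.integral x⟩ * b, M.mul_mem_left _ hb, by push_cast; rw [e]⟩
    · obtain ⟨b, hb, e⟩ := h.mem x hc
      exact ⟨b * ⟨β' 1 x, h'.integral x⟩, M.mul_mem_right _ hb, by push_cast; rw [e]⟩

end Family

/-! ### The criterion -/

universe u
variable {X : Type u} [Group X] [Finite X]

/-- A weight family on the stabiliser whose sizes bound the fixed points gives `k(X) ≤ |V|`. -/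
theorem class_number_le_of_family {p : ℕ} {M : Ideal AlgInt} (hM : Cfsg.IsPModular p M)
    (V : Subgroup X) [V.Normal] (hVp : IsPGroup p V) (hab : ∀ a ∈ V, ∀ b ∈ V, a * b = b * a)
    (hidx : ¬ p ∣ V.index) (G : Subgroup X) (hGV : Subgroup.IsComplement' V G)
    (hcop : (Nat.card V).Coprime (Nat.card G)) {v : X}
    (hv : v ∈ V) (H : Subgroup X) [Fintype H] (hH : H = G ⊓ Subgroup.centralizer ({v} : Set X))
    (hHp : ¬ p ∣ Nat.card H) (c : H → ℕ) (N : ℕ) (β : ℕ → H → ℂ)
    (hβ : IsBetaFamily (Nat.card X) M c N β) (hne : ∀ h : H, h ≠ 1 → c h ≠ N)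
    (hc : ∀ h : H, Nat.card ↥(V ⊓ Subgroup.centralizer ({(h : X)} : Set X)) * N ≤
      Nat.card V * c h) (hcpos : ∀ h, 0 < c h) :
    Nat.card (ConjClasses X) ≤ Nat.card V := by
  classical
  set n := Nat.card X
  have hn : 0 < n := Nat.card_pos
  refine class_number_le_of_weights V G hab hGV hcop hv H hH (fun k h => ‖β k h‖ ^ 2)
    (fun k hk h => ?_) fun χ => ?_
  · have h1 := hβ.norm_sq k (mem_totatives.1 hk).2 h
    have h2 : ((Nat.card ↥(V ⊓ Subgroup.centralizer ({(h : X)} : Set X)) * N : ℕ) : ℝ) ≤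
        ((Nat.card V * c h : ℕ) : ℝ) := Nat.cast_le.2 (hc h)
    push_cast at h2
    rw [← h1] at h2
    exact le_of_mul_le_mul_right (le_trans (le_of_eq (by ring)) h2) (Nat.cast_pos.2 (hcpos h))
  have hχ := isCharacter_of_isIrr χ.2
  have hHv : H ≤ Subgroup.centralizer ({v} : Set X) := hH ▸ inf_le_right
  have hcomm : ∀ h : H, Commute v (h : X) := fun h =>
    (Subgroup.mem_centralizer_singleton_iff.1 (hHv h.2)).symm
  let η : ℕ → H → ℂ := fun k h => (χ : X → ℂ) (v ^ k * h)
  have hvirt : ∀ k, IntVirt (η k) := fun k => by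
    refine ⟨fun x g => ?_, fun φ =>
      (isCyc_classInner hχ hn pow_card_eq_one' H hHv (isCharacter_of_isIrr φ.2)).isIntegral hn k⟩
    show (χ : X → ℂ) (v ^ k * ((g * x * g⁻¹ : H) : X)) = (χ : X → ℂ) (v ^ k * x)
    rw [← isClassFunction_of_isCharacter hχ (v ^ k * x) (g : X)]
    congr 1
    push_cast
    rw [← mul_assoc, ← mul_assoc, ((hcomm g).pow_left k).eq, ← mul_assoc]
  let F : ℕ → H → ℂ := fun k h => β k h * η k h
  have hF : ∀ k ∈ totatives n, IntVirt (F k) := fun k hk =>
    (hβ.virt k (mem_totatives.1 hk).2).mul (hvirt k)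
  -- coefficients
  have hGal : ∀ φ : Cfsg.IrrCharacter H, IsGal n (fun k => Cfsg.classInner (F k) (φ : H → ℂ)) := by
    intro φ
    have hφ := isCharacter_of_isIrr φ.2
    refine ((isGal_natInv (n := n) (m := Nat.card H) Nat.card_pos).mul
      (isGal_sum Finset.univ (fun h k => β k (h ^ k) * (χ : X → ℂ) ((v * (h : X)) ^ k) *
        (φ : H → ℂ) (h⁻¹ ^ k)) fun h _ => ?_)).congr fun k hk => ?_
    · refine ((hβ.gal h).mul ?_).mul ?_
      · obtain ⟨P, hP⟩ := exists_poly_char hχ hn (pow_card_eq_one' (x := v * (h : X)))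
          (isPrimitiveRoot_stdRoot hn)
        exact IsCyc.isGal ⟨P, hP⟩
      · obtain ⟨P, hP⟩ := exists_poly_char hφ hn (g := h⁻¹)
          (Subtype.ext (by push_cast; exact pow_card_eq_one')) (isPrimitiveRoot_stdRoot hn)
        exact IsCyc.isGal ⟨P, hP⟩
    · rw [Cfsg.classInner]
      congr 1
      have hkH : (Nat.card H).Coprime k :=
        (Nat.Coprime.coprime_dvd_left (Subgroup.card_subgroup_dvd_card H) hk.symm)
      refine Fintype.sum_equiv (powCoprime hkH) _ _ fun h => ?_
      show _ = β k (h ^ k) * (χ : X → ℂ) (v ^ k * ((h ^ k : H) : X)) * conj ((φ : H → ℂ) (h ^ k))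
      rw [(hcomm h).mul_pow, inv_pow, character_inv hφ]
      push_cast; rfl
  have hone : ∀ φ : Cfsg.IrrCharacter H, Cfsg.classInner (F 1) (φ : H → ℂ) ≠ 0 := by
    intro φ h0
    have hφ := isCharacter_of_isIrr φ.2
    rw [Cfsg.classInner, mul_eq_zero, inv_eq_zero] at h0
    replace h0 := h0.resolve_left natCard_ne_zero
    let A : H → AlgInt := fun h => ⟨F 1 h * conj ((φ : H → ℂ) h), by
      rw [← character_inv hφ]
      exact ((hβ.integral h).mul (character_isIntegral hχ _)).mul (character_isIntegral hφ _)⟩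
    have hA : ∑ h, A h = 0 := Subtype.ext (by push_cast; exact h0)
    have hA1 : A 1 ∈ M := by
      rw [← Finset.add_sum_erase _ _ (Finset.mem_univ (1 : H)), add_eq_zero_iff_eq_neg] at hA
      rw [hA]
      refine M.neg_mem (M.sum_mem fun h hh => ?_)
      obtain ⟨b, hb, e⟩ := hβ.mem h (hne h (Finset.ne_of_mem_erase hh))
      have : A h = b * ⟨η 1 h * conj ((φ : H → ℂ) h), by
          rw [← character_inv hφ]
          exact (character_isIntegral hχ _).mul (character_isIntegral hφ _)⟩ :=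
        Subtype.ext (by push_cast; rw [e]; simp only [A, F]; ring)
      rw [this]
      exact M.mul_mem_right _ hb
    obtain ⟨d, hd⟩ := exists_degree hφ
    have hd' : A 1 = ⟨(χ : X → ℂ) v, character_isIntegral hχ v⟩ * (d : AlgInt) :=
      Subtype.ext (by
        push_cast
        simp only [A, F, η, hβ.one, one_mul, pow_one, Subgroup.coe_one, mul_one, hd, Complex.conj_natCast])
    rw [hd'] at hA1
    rcases (CfsgLib.Blocks.IsPModular.isPrime hM).mem_or_mem hA1 with h1 | h1
    · exact value_not_mem hM V hVp hab hidx χ.2 hv _ rfl h1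
    · refine hHp (((CfsgLib.Blocks.IsPModular.natCast_mem_iff hM d).1 h1).trans ?_)
      obtain ⟨m, ρ, hρ, hφe⟩ := φ.2
      have hm : Module.finrank ℂ (Fin m → ℂ) = d := by
        rw [← hφe, Representation.char_one] at hd
        exact_mod_cast hd
      exact hm ▸ CfsgLib.Characters.finrank_dvd_card ρ
  calc (n.totient : ℝ) * (Nat.card (ConjClasses H) * Nat.card H : ℕ)
      = ∑ _φ : Cfsg.IrrCharacter H, (Nat.card H : ℝ) * (n.totient : ℝ) := by
        rw [Finset.sum_const, Finset.card_univ, ← Nat.card_eq_fintype_card, card_irrCharacter,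
          nsmul_eq_mul]
        push_cast; ring
    _ ≤ ∑ φ : Cfsg.IrrCharacter H, (Nat.card H : ℝ) *
          ∑ k ∈ totatives n, ‖Cfsg.classInner (F k) (φ : H → ℂ)‖ ^ 2 :=
        Finset.sum_le_sum fun φ _ => mul_le_mul_of_nonneg_left
          (totient_le_sum_gal hn (hGal φ) (fun k hk => (hF k hk).2 φ) (hone φ)) (Nat.cast_nonneg _)
    _ = ∑ k ∈ totatives n, (Nat.card H : ℝ) *
          ∑ φ : Cfsg.IrrCharacter H, ‖Cfsg.classInner (F k) (φ : H → ℂ)‖ ^ 2 := by
        rw [← Finset.mul_sum, Finset.sum_comm, Finset.mul_sum]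
    _ = _ := by
        refine Finset.sum_congr rfl fun k hk => ?_
        have h1 := classInner_eq_sum (hF k hk).1 (F k)
        rw [Cfsg.classInner, inv_mul_eq_iff_eq_mul₀ natCard_ne_zero] at h1
        simp only [Complex.mul_conj'] at h1
        have h2 : ∑ h : H, ‖F k h‖ ^ 2 = (Nat.card H : ℝ) *
            ∑ φ : Cfsg.IrrCharacter H, ‖Cfsg.classInner (F k) (φ : H → ℂ)‖ ^ 2 := by
          exact_mod_cast h1
        rw [← h2]
        exact Finset.sum_congr rfl fun h _ => by simp only [F, η, norm_mul, mul_pow]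

end CfsgLib.GaloisAverage
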