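import Mathlib

/-!
# Irreducible twisted representations of a finite symplectic space

For a bilinear form `B` on a finite `ZMod p`-space `W` whose commutator form `B x y - B y x` is
nondegenerate, there are `d × d` complex matrices `τ x` with `τ x * τ z = ψ (B x z) • τ (x + z)`,
only the scalars commuting with all of them (`exists_twisted`); then `d ^ 2 = |W|`
(`IsTwisted.dim_sq`), traces vanish off zero, and automorphisms preserving `B` are implemented by
matrices (`IsTwisted.exists_intertwiner`).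
-/

set_option autoImplicit false
set_option linter.unusedSectionVars false

namespace CfsgLib.GaloisAverage

open Matrix

universe u
variable {p : ℕ} [Fact p.Prime] {W : Type u} [AddCommGroup W] [Module (ZMod p) W]

/-- The standard additive character of `ZMod p`. -/
noncomputable def pc (p : ℕ) [Fact p.Prime] : AddChar (ZMod p) ℂ := ZMod.stdAddChar

theorem pc_zero : pc p 0 = 1 := AddChar.map_zero_eq_one _

theorem pc_add (a b : ZMod p) : pc p (a + b) = pc p a * pc p b := AddChar.map_add_eq_mul _ a b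

theorem pc_ne_zero (a : ZMod p) : pc p a ≠ 0 := fun h => by
  have h1 := pc_add a (-a)
  rw [add_neg_cancel, pc_zero, h, zero_mul] at h1
  exact one_ne_zero h1

theorem pc_eq_one_iff {a : ZMod p} : pc p a = 1 ↔ a = 0 := by
  rw [← pc_zero (p := p)]
  exact ZMod.injective_stdAddChar.eq_iff

theorem pc_pow_eq_one (a : ZMod p) : pc p a ^ p = 1 := by
  rw [← AddChar.map_nsmul_eq_pow, nsmul_eq_mul, ZMod.natCast_self, zero_mul, AddChar.map_zero_eq_one]

theorem pc_neg_mul (a : ZMod p) : pc p (-a) * pc p a = 1 := by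
  rw [← pc_add, neg_add_cancel, pc_zero]

/-- A twisted representation with trivial commutant. -/
structure IsTwisted (B : W → W → ZMod p) {d : ℕ} (τ : W → Matrix (Fin d) (Fin d) ℂ) : Prop where
  pos : 0 < d
  map_zero : τ 0 = 1
  map_mul : ∀ x z, τ x * τ z = pc p (B x z) • τ (x + z)
  schur : ∀ M : Matrix (Fin d) (Fin d) ℂ, (∀ x, M * τ x = τ x * M) →
    ∃ c : ℂ, M = c • (1 : Matrix (Fin d) (Fin d) ℂ)
  nondeg : ∀ x, (∀ z, B x z = B z x) → x = 0

variable [Fintype W]

/-- Existence. -/
theorem exists_twisted (B : W →ₗ[ZMod p] W →ₗ[ZMod p] ZMod p)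
    (hB : ∀ x, (∀ z, B x z = B z x) → x = 0) :
    ∃ (d : ℕ) (τ : W → Matrix (Fin d) (Fin d) ℂ), IsTwisted (fun x z => B x z) τ := by
  classical
  let T : W → Module.End ℂ (W → ℂ) := fun x =>
    { toFun := fun f z => pc p (B x (z - x)) * f (z - x)
      map_add' := fun f g => funext fun z => mul_add _ _ _
      map_smul' := fun c f => funext fun z => by
        simp only [Pi.smul_apply, smul_eq_mul, RingHom.id_apply]; ring }
  have hT0 : T 0 = 1 := LinearMap.ext fun f => funext fun z => by simp [T]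
  have hTmul : ∀ x z, T x * T z = pc p (B x z) • T (x + z) := fun x z =>
    LinearMap.ext fun f => funext fun y => by
      simp only [T, Module.End.mul_apply, LinearMap.smul_apply, Pi.smul_apply, smul_eq_mul,
        LinearMap.coe_mk, AddHom.coe_mk, ← mul_assoc, ← pc_add, sub_sub]
      congr 2
      simp only [map_sub, map_add, LinearMap.add_apply]
      abel
  obtain ⟨E, ⟨hE0, hE⟩, hmin⟩ := wellFounded_lt.has_min
    {E : Submodule ℂ (W → ℂ) | E ≠ ⊥ ∧ ∀ x, ∀ f ∈ E, T x f ∈ E}
    ⟨⊤, top_ne_bot, fun _ _ _ => Submodule.mem_top⟩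
  let b := Module.finBasis ℂ E
  let R : W → Module.End ℂ E := fun x => (T x).restrict (hE x)
  have hR : ∀ x (f : E), (R x f : W → ℂ) = T x f := fun x f => rfl
  refine ⟨Module.finrank ℂ E, fun x => LinearMap.toMatrixAlgEquiv b (R x),
    { pos := ?_, map_zero := ?_, map_mul := ?_, schur := ?_, nondeg := hB }⟩
  · exact Nat.pos_of_ne_zero fun h => hE0 (Submodule.finrank_eq_zero.1 h)
  · have : R 0 = 1 := LinearMap.ext fun f => Subtype.ext (by simp [hR, hT0])
    simp only [this, map_one]
  · intro x z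
    have : R x * R z = pc p (B x z) • R (x + z) := LinearMap.ext fun f => Subtype.ext
      (LinearMap.congr_fun (hTmul x z) (f : W → ℂ))
    rw [← map_mul, this, map_smul]
  · intro M hM
    obtain ⟨S, rfl⟩ := (LinearMap.toMatrixAlgEquiv b).surjective M
    have hcomm : ∀ x, S * R x = R x * S := fun x =>
      (LinearMap.toMatrixAlgEquiv b).injective (by rw [map_mul, map_mul]; exact hM x)
    have hnt : Nontrivial E := (Submodule.nontrivial_iff_ne_bot).2 hE0
    obtain ⟨c, hc⟩ := Module.End.exists_eigenvalue S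
    refine ⟨c, ?_⟩
    suffices S = c • 1 by rw [this, map_smul, map_one]
    let K := (Module.End.eigenspace S c).map E.subtype
    have hK : K = E := by
      refine ((Submodule.map_subtype_le E _).lt_or_eq).resolve_left fun hlt => hmin K ⟨?_, ?_⟩ hlt
      · intro h0
        exact hc ((Submodule.map_injective_of_injective Subtype.coe_injective (h0.trans (Submodule.map_bot _).symm)))
      · rintro x _ ⟨f, hf, rfl⟩
        refine ⟨R x f, Module.End.mem_eigenspace_iff.2 ?_, hR x f⟩
        rw [← Module.End.mul_apply, hcomm, Module.End.mul_apply, Module.End.mem_eigenspace_iff.1 hf,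
          map_smul]
    refine LinearMap.ext fun f => ?_
    obtain ⟨g, hg, hgf⟩ := (hK.symm ▸ f.2 : (f : W → ℂ) ∈ K)
    rw [← Subtype.ext hgf]
    exact Module.End.mem_eigenspace_iff.1 hg

namespace IsTwisted

variable {B : W → W → ZMod p} {d : ℕ} {τ : W → Matrix (Fin d) (Fin d) ℂ}

theorem comm (h : IsTwisted B τ) (x z : W) :
    τ x * τ z = pc p (B x z - B z x) • (τ z * τ x) := by
  rw [h.map_mul x z, h.map_mul z x, smul_smul, ← pc_add, sub_add_cancel, add_comm z x]

/-- A right inverse with its scalar. -/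
noncomputable def inv' (τ : W → Matrix (Fin d) (Fin d) ℂ) (B : W → W → ZMod p) (x : W) :
    Matrix (Fin d) (Fin d) ℂ :=
  pc p (-B x (-x)) • τ (-x)

theorem mul_inv' (h : IsTwisted B τ) (x : W) : τ x * inv' τ B x = 1 := by
  rw [inv', mul_smul_comm, h.map_mul, smul_smul, pc_neg_mul, add_neg_cancel, h.map_zero, one_smul]

theorem inv'_mul (h : IsTwisted B τ) (x : W) : inv' τ B x * τ x = 1 :=
  mul_eq_one_comm.1 (h.mul_inv' x)

/-- A matrix moved to a multiple of itself by a nontrivial scalar has trace zero. -/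
theorem trace_eq_zero_of_conj (h : IsTwisted B τ) {M : Matrix (Fin d) (Fin d) ℂ} {z : W} {c : ℂ}
    (hc : c ≠ 1) (hM : τ z * M = c • (M * τ z)) : M.trace = 0 := by
  have h1 : M.trace = c * M.trace := by
    calc M.trace = ((τ z * M) * inv' τ B z).trace := by
          rw [trace_mul_comm, ← mul_assoc, h.inv'_mul, one_mul]
      _ = c * M.trace := by
          rw [hM, smul_mul_assoc, trace_smul, mul_assoc, h.mul_inv', mul_one, smul_eq_mul]
  by_contra h0
  exact hc ((mul_eq_right₀ h0).1 h1.symm)

theorem trace_eq_zero (h : IsTwisted B τ) {x : W} (hx : x ≠ 0) : (τ x).trace = 0 := by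
  obtain ⟨z, hz⟩ : ∃ z, B x z ≠ B z x := by
    by_contra hc
    push Not at hc
    exact hx (h.nondeg x hc)
  exact h.trace_eq_zero_of_conj (c := pc p (B z x - B x z))
    (fun e => hz (sub_eq_zero.1 (pc_eq_one_iff.1 e)).symm) (h.comm z x)

theorem trace_mul_inv' (h : IsTwisted B τ) {x y : W} (hxy : x ≠ y) :
    (τ x * inv' τ B y).trace = 0 := by
  rw [inv', mul_smul_comm, h.map_mul, smul_smul, trace_smul,
    h.trace_eq_zero (fun e => hxy (by rwa [← sub_eq_add_neg, sub_eq_zero] at e)), smul_zero]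

variable {ω : W ≃+ W}

/-- The twisted average `∑ τ (ω x) M (τ x)⁻¹` intertwines. -/
theorem avg_intertwines (h : IsTwisted B τ) (hω : ∀ x z, B (ω x) (ω z) = B x z)
    (M : Matrix (Fin d) (Fin d) ℂ) (z : W) :
    (∑ x, τ (ω x) * M * inv' τ B x) * τ z = τ (ω z) * ∑ x, τ (ω x) * M * inv' τ B x := by
  rw [Finset.sum_mul, Finset.mul_sum]
  refine (Fintype.sum_equiv (Equiv.addLeft z) _ _ fun x => ?_).symm
  simp only [Equiv.coe_addLeft]
  have e1 : inv' τ B (z + x) * τ z = pc p (B z x) • inv' τ B x := by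
    have h1 : inv' τ B (z + x) * (τ z * τ x) = pc p (B z x) • (1 : Matrix (Fin d) (Fin d) ℂ) := by
      rw [h.map_mul, mul_smul_comm, h.inv'_mul]
    calc inv' τ B (z + x) * τ z = inv' τ B (z + x) * (τ z * τ x) * inv' τ B x := by
          rw [mul_assoc, mul_assoc (τ z), h.mul_inv', mul_one]
      _ = _ := by rw [h1, smul_mul_assoc, one_mul]
  rw [map_add, mul_assoc (τ (ω z + ω x) * M), e1, mul_smul_comm, ← smul_mul_assoc, ← smul_mul_assoc,
    ← hω z x, ← h.map_mul, ← mul_assoc, ← mul_assoc]

/-- The averaging formula. -/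
theorem avg_eq (h : IsTwisted B τ) (M : Matrix (Fin d) (Fin d) ℂ) :
    ∑ x, τ x * M * inv' τ B x =
      ((Fintype.card W : ℂ) * M.trace / d) • (1 : Matrix (Fin d) (Fin d) ℂ) := by
  obtain ⟨c, hc⟩ := h.schur (∑ x, τ x * M * inv' τ B x)
    fun z => h.avg_intertwines (ω := AddEquiv.refl W) (fun _ _ => rfl) M z
  rw [hc]
  congr 1
  have h1 := congrArg trace hc
  rw [trace_sum, trace_smul, trace_one, Fintype.card_fin, smul_eq_mul] at h1
  rw [eq_div_iff (Nat.cast_ne_zero.2 h.pos.ne'), ← h1]
  rw [Finset.sum_congr rfl fun x _ => by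
    rw [trace_mul_comm (τ x * M), ← mul_assoc, h.inv'_mul, one_mul]]
  simp

/-- The double sum of `(A E_ab B)_ab` is a product of traces. -/
theorem sum_single (A A' : Matrix (Fin d) (Fin d) ℂ) :
    ∑ a, ∑ b, (A * Matrix.single a b (1 : ℂ) * A' : Matrix (Fin d) (Fin d) ℂ) a b = A.trace * A'.trace := by
  rw [trace, trace, Finset.sum_mul_sum]
  refine Finset.sum_congr rfl fun a _ => Finset.sum_congr rfl fun b _ => ?_
  rw [mul_apply, Finset.sum_eq_single b (fun c _ hc => by
    rw [mul_single_apply_of_ne _ _ _ _ _ (hc : c ≠ b), zero_mul]) (by simp),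
    mul_single_apply_same, mul_one, diag_apply, diag_apply]

/-- The dimension squared is the order. -/
theorem dim_sq (h : IsTwisted B τ) : d ^ 2 = Fintype.card W := by
  classical
  have h1 : ∑ a, ∑ b, (∑ x, τ x * Matrix.single a b (1 : ℂ) * inv' τ B x : Matrix (Fin d) (Fin d) ℂ) a b = (d : ℂ) ^ 2 := by
    simp only [Matrix.sum_apply]
    rw [Finset.sum_congr rfl fun a _ => Finset.sum_comm, Finset.sum_comm,
      Finset.sum_congr rfl fun x _ => sum_single _ _, Finset.sum_eq_single (0 : W)
        (fun x _ hx => by rw [h.trace_eq_zero hx, zero_mul]) (by simp)]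
    have : inv' τ B 0 = 1 := by
      have := h.mul_inv' 0
      rwa [h.map_zero, one_mul] at this
    rw [this, h.map_zero, trace_one, Fintype.card_fin, sq]
  have h2 : ∑ a, ∑ b, (∑ x, τ x * Matrix.single a b (1 : ℂ) * inv' τ B x : Matrix (Fin d) (Fin d) ℂ) a b = (Fintype.card W : ℂ) := by
    simp only [h.avg_eq, Matrix.smul_apply, smul_eq_mul]
    rw [Finset.sum_congr rfl fun a _ => Finset.sum_eq_single a
      (fun b _ hb => by rw [one_apply_ne (Ne.symm hb), mul_zero]) (by simp)]
    simp only [one_apply_eq, mul_one, trace_single_eq_same]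
    rw [Finset.sum_const, Finset.card_univ, Fintype.card_fin, nsmul_eq_mul,
      mul_div_cancel₀ _ (Nat.cast_ne_zero.2 h.pos.ne')]
  exact_mod_cast h1.symm.trans h2

/-- Automorphisms preserving the form are implemented by matrices of determinant one. -/
theorem exists_intertwiner (h : IsTwisted B τ) (hω : ∀ x z, B (ω x) (ω z) = B x z) :
    ∃ P : Matrix (Fin d) (Fin d) ℂ, P.det = 1 ∧ ∀ x, P * τ x = τ (ω x) * P := by
  classical
  let Ω : Matrix (Fin d) (Fin d) ℂ → Matrix (Fin d) (Fin d) ℂ :=
    fun M => ∑ x, τ (ω x) * M * inv' τ B x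
  obtain ⟨a, b, hab⟩ : ∃ a b, Ω (single a b 1) ≠ 0 := by
    by_contra hc
    push Not at hc
    have h1 : ∑ a, ∑ b, (Ω (Matrix.single a b (1 : ℂ))) a b = (d : ℂ) ^ 2 := by
      simp only [Ω, Matrix.sum_apply]
      rw [Finset.sum_congr rfl fun a _ => Finset.sum_comm, Finset.sum_comm,
        Finset.sum_congr rfl fun x _ => sum_single _ _, Finset.sum_eq_single (0 : W)
          (fun x _ hx => by rw [h.trace_eq_zero (ω.map_ne_zero_iff.2 hx), zero_mul]) (by simp)]
      have : inv' τ B 0 = 1 := by
        have := h.mul_inv' 0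
        rwa [h.map_zero, one_mul] at this
      rw [this, _root_.map_zero, h.map_zero, trace_one, Fintype.card_fin, sq]
    simp only [hc, Matrix.zero_apply, Finset.sum_const_zero] at h1
    exact pow_ne_zero 2 (Nat.cast_ne_zero.2 h.pos.ne') h1.symm
  set P₀ := Ω (single a b 1)
  have hP₀ : ∀ z, P₀ * τ z = τ (ω z) * P₀ := h.avg_intertwines hω _
  have hinv : P₀.det ≠ 0 := by
    by_contra hdet
    obtain ⟨v, hv0, hv⟩ := exists_mulVec_eq_zero_iff.2 hdet
    obtain ⟨i, hi⟩ := Function.ne_iff.1 hv0
    -- `∑ τ x (v e_j) (τ x)⁻¹` is scalar, so its image fills everything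
    refine hab (Matrix.ext fun r j => ?_)
    have hsum : P₀ * ∑ x, τ x * (of fun s t => v s * if t = i then 1 else 0) * inv' τ B x = 0 := by
      rw [Finset.mul_sum]
      refine Finset.sum_eq_zero fun x _ => ?_
      rw [← mul_assoc, ← mul_assoc, hP₀, mul_assoc (τ (ω x)) P₀]
      have : P₀ * (of fun s t => v s * if t = i then (1 : ℂ) else 0) = 0 := Matrix.ext fun s t => by
        simp only [mul_apply, of_apply, ← mul_assoc, ← Finset.sum_mul, Matrix.zero_apply]
        have := congrFun hv s
        simp only [mulVec, dotProduct, Pi.zero_apply] at this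
        rw [this, zero_mul]
      rw [this, mul_zero, zero_mul]
    rw [h.avg_eq, mul_smul_comm, mul_one, smul_eq_zero, div_eq_zero_iff, mul_eq_zero] at hsum
    have htr : (of fun s t => v s * if t = i then (1 : ℂ) else 0).trace = v i := by
      simp [trace, diag_apply]
    rw [htr] at hsum
    rcases hsum with ((h0 | h0) | h0) | h0
    · exact absurd h0 (Nat.cast_ne_zero.2 Fintype.card_ne_zero)
    · exact absurd h0 hi
    · exact absurd h0 (Nat.cast_ne_zero.2 h.pos.ne')
    · exact congrFun (congrFun h0 r) j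
  obtain ⟨c, hc⟩ := IsAlgClosed.exists_pow_nat_eq (P₀.det)⁻¹ h.pos
  refine ⟨c • P₀, ?_, fun x => by rw [smul_mul_assoc, hP₀, mul_smul_comm]⟩
  rw [det_smul, Fintype.card_fin, hc, inv_mul_cancel₀ hinv]

end IsTwisted

end CfsgLib.GaloisAverage
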