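import Mathlib
import Cfsg.Agent.GaloisAverage.RealVector.Twisted
import Cfsg.Agent.GaloisAverage.RealVector.Family
import Cfsg.Agent.Characters.Linear

/-!
# The weight family of a coprime symplectic module

The operators on the twisted representation give a character `ψ` with `|ψ h|² = |C_W(h)|`, and
`h ↦ d ψ(h) / |C_W(h)|` is a weight family with `N = |W|`.
-/

set_option autoImplicit false
set_option linter.unusedSectionVars false

namespace CfsgLib.GaloisAverage

open Matrix CfsgLib.Characters Cfsg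
open scoped ComplexConjugate

universe u v
variable {p : ℕ} [Fact p.Prime] {W : Type u} [AddCommGroup W] [Module (ZMod p) W] [Fintype W]
  {H : Type v} [Group H] [Fintype H]

omit [Fintype W] in
/-- A form with prescribed alternating commutator, invariant under a coprime group. -/
theorem exists_invariant_half [FiniteDimensional (ZMod p) W] (hH : ¬ p ∣ Nat.card H)
    (ρ : Representation (ZMod p) H W) (A : LinearMap.BilinForm (ZMod p) W)
    (halt : ∀ x, A x x = 0) (hinv : ∀ h x y, A (ρ h x) (ρ h y) = A x y) :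
    ∃ B : LinearMap.BilinForm (ZMod p) W,
      (∀ x y, B x y - B y x = A x y) ∧ ∀ h x y, B (ρ h x) (ρ h y) = B x y := by
  classical
  have hanti : ∀ x y, A y x = - A x y := fun x y => by
    have := halt (x + y)
    simp only [map_add, LinearMap.add_apply, halt, zero_add, add_zero] at this
    exact eq_neg_of_add_eq_zero_left this
  let b := Module.finBasis (ZMod p) W
  let B₀ : LinearMap.BilinForm (ZMod p) W :=
    Matrix.toBilin b (Matrix.of fun i j => if i < j then A (b i) (b j) else 0)
  have hB₀ : B₀ - B₀.flip = A := LinearMap.ext_basis b b fun i j => by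
    have e : ∀ i j, B₀ (b i) (b j) = if i < j then A (b i) (b j) else 0 := fun i j => by
      rw [← LinearMap.BilinForm.toMatrix_apply b B₀, show LinearMap.BilinForm.toMatrix b B₀ = _ from
        (Matrix.toBilin b).symm_apply_apply _, Matrix.of_apply]
    simp only [LinearMap.sub_apply]
    rw [show B₀.flip (b i) (b j) = B₀ (b j) (b i) from rfl, e, e]
    rcases lt_trichotomy i j with h | h | h
    · simp [h, not_lt.2 h.le]
    · subst h; simp [halt]
    · simp [h, not_lt.2 h.le, hanti (b i) (b j)]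
  have hc : (Nat.card H : ZMod p) ≠ 0 := fun h => hH ((ZMod.natCast_eq_zero_iff _ _).1 h)
  let B : LinearMap.BilinForm (ZMod p) W :=
    (Nat.card H : ZMod p)⁻¹ • ∑ g : H, B₀.compl₁₂ (ρ g) (ρ g)
  have hBa : ∀ x y, B x y = (Nat.card H : ZMod p)⁻¹ * ∑ g : H, B₀ (ρ g x) (ρ g y) := fun x y => by
    simp [B]
  refine ⟨B, fun x y => ?_, fun h x y => ?_⟩
  · rw [hBa, hBa, ← mul_sub, ← Finset.sum_sub_distrib]
    have : ∀ g : H, B₀ (ρ g x) (ρ g y) - B₀ (ρ g y) (ρ g x) = A x y := fun g => by
      rw [← hinv g x y, ← hB₀]; rfl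
    rw [Finset.sum_congr rfl fun g _ => this g, Finset.sum_const, Finset.card_univ, nsmul_eq_mul,
      ← mul_assoc, Nat.card_eq_fintype_card, inv_mul_cancel₀ (by rwa [← Nat.card_eq_fintype_card]),
      one_mul]
  · rw [hBa, hBa]
    congr 1
    refine Fintype.sum_equiv (Equiv.mulRight h) _ _ fun g => ?_
    simp [map_mul]

/-- Coprime projective matrices of determinant one can be normalised to a representation. -/
theorem exists_hom_of_projective {d : ℕ} (hcop : (Nat.card H).Coprime d)
    (P : H → Matrix (Fin d) (Fin d) ℂ) (hdet : ∀ g, (P g).det = 1) (c : H → H → ℂ)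
    (hc : ∀ g h, P g * P h = c g h • P (g * h)) :
    ∃ (R : H →* Matrix (Fin d) (Fin d) ℂ) (s : H → ℂ), ∀ g, R g = s g • P g := by
  classical
  have hd : ∀ g h, c g h ^ d = 1 := fun g h => by
    have := congrArg det (hc g h)
    rwa [det_mul, det_smul, hdet, hdet, hdet, Fintype.card_fin, one_mul, mul_one, eq_comm] at this
  rcases Nat.eq_zero_or_pos d with rfl | hpos
  · exact ⟨1, fun _ => 1, fun g => Subsingleton.elim _ _⟩
  have hc0 : ∀ g h, c g h ≠ 0 := fun g h e => by
    have := hd g h; rw [e, zero_pow hpos.ne'] at this; exact zero_ne_one this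
  have hP0 : ∀ g, P g ≠ 0 := fun g e => by
    have : Nonempty (Fin d) := ⟨⟨0, hpos⟩⟩
    have := hdet g
    rw [e, det_zero] at this
    exact zero_ne_one this
  let μ : H → ℂ := fun g => ∏ h, c g h
  have hμ0 : ∀ g, μ g ≠ 0 := fun g => Finset.prod_ne_zero_iff.2 fun h _ => hc0 g h
  have hassoc : ∀ g h k, c g h * c (g * h) k = c h k * c g (h * k) := fun g h k => by
    refine smul_left_injective ℂ (hP0 (g * h * k)) ?_
    show (c g h * c (g * h) k) • P (g * h * k) = (c h k * c g (h * k)) • P (g * h * k)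
    rw [← smul_smul, ← hc, ← smul_mul_assoc, ← hc, mul_assoc (P g), hc h k, mul_smul_comm, hc,
      smul_smul, mul_assoc g]
  have hμ : ∀ g h, c g h ^ Nat.card H * μ (g * h) = μ h * μ g := fun g h => by
    have : ∏ k, (c g h * c (g * h) k) = ∏ k, (c h k * c g (h * k)) :=
      Finset.prod_congr rfl fun k _ => hassoc g h k
    rw [Finset.prod_mul_distrib, Finset.prod_mul_distrib, Finset.prod_const, Finset.card_univ,
      ← Nat.card_eq_fintype_card] at this
    rw [this]
    congr 1
    exact Fintype.prod_equiv (Equiv.mulLeft h) _ _ fun k => rfl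
  obtain ⟨a, ha⟩ : ∃ a : ℕ, ∀ g h, c g h ^ (Nat.card H * a) = c g h := by
    rcases Nat.lt_or_ge 1 d with h1 | h1
    · obtain ⟨a, -, ha⟩ := Nat.exists_mul_mod_eq_one_of_coprime hcop h1
      refine ⟨a, fun g h => ?_⟩
      rw [← Nat.div_add_mod (Nat.card H * a) d, ha, pow_add, pow_mul, hd, one_pow, one_mul, pow_one]
    · refine ⟨0, fun g h => ?_⟩
      have := hd g h
      rw [show d = 1 by omega, pow_one] at this
      simp [this]
  let s : H → ℂ := fun g => (μ g ^ a)⁻¹
  have hsmul : ∀ g h, (s g • P g) * (s h • P h) = s (g * h) • P (g * h) := fun g h => by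
    rw [smul_mul_smul_comm, hc, smul_smul]
    congr 1
    have h1 : (c g h ^ (Nat.card H * a)) * μ (g * h) ^ a = μ h ^ a * μ g ^ a := by
      rw [pow_mul, ← mul_pow, hμ, mul_pow]
    rw [ha] at h1
    simp only [s]
    have := pow_ne_zero a (hμ0 g); have := pow_ne_zero a (hμ0 h); have := pow_ne_zero a (hμ0 (g * h))
    field_simp
    linear_combination h1
  have hone : s 1 • P 1 = 1 := by
    have h1 := hsmul 1 1
    rw [one_mul] at h1
    have hu : IsUnit (s 1 • P 1) := (isUnit_iff_isUnit_det _).2 (by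
      rw [det_smul, hdet, mul_one]
      exact (pow_ne_zero _ (inv_ne_zero (pow_ne_zero a (hμ0 1)))).isUnit)
    exact hu.mul_eq_right.1 h1
  exact ⟨{ toFun := fun g => s g • P g, map_one' := hone, map_mul' := fun g h => (hsmul g h).symm },
    s, fun g => rfl⟩

/-- The trace of a matrix is integral if the operator satisfies `f ^ (r+1) = f`. -/
theorem isIntegral_trace_of_pow {V : Type*} [AddCommGroup V] [Module ℂ V] [FiniteDimensional ℂ V]
    (f : Module.End ℂ V) {r : ℕ} (hr : 0 < r) (hf : f ^ (r + 1) = f) :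
    IsIntegral ℤ (LinearMap.trace ℂ V f) := by
  classical
  let b := Module.finBasis ℂ V
  rw [LinearMap.trace_eq_matrix_trace ℂ b, Matrix.trace_eq_sum_roots_charpoly,
    LinearMap.charpoly_toMatrix]
  refine Multiset.sum_induction (IsIntegral ℤ) _ (fun _ _ => IsIntegral.add) isIntegral_zero fun x hx => ?_
  have hx' : f.HasEigenvalue x :=
    (Module.End.hasEigenvalue_iff_isRoot_charpoly f x).2 (Polynomial.isRoot_of_mem_roots hx)
  obtain ⟨v, hv⟩ := hx'.exists_hasEigenvector
  have h1 : x ^ (r + 1) = x := by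
    refine smul_left_injective ℂ hv.2 ?_
    show x ^ (r + 1) • v = x • v
    rw [← hv.pow_apply, hf, hv.apply_eq_smul]
  rcases eq_or_ne x 0 with rfl | h0
  · exact isIntegral_zero
  · refine IsIntegral.of_pow hr ?_
    rw [pow_succ, mul_eq_right₀ h0] at h1
    rw [h1]; exact isIntegral_one

/-- The fixed points of an operator. -/
def fixedSet (ρ : Representation (ZMod p) H W) (h : H) : Submodule (ZMod p) W :=
  LinearMap.ker (ρ h - 1)

theorem mem_fixedSet {ρ : Representation (ZMod p) H W} {h : H} {x : W} :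
    x ∈ fixedSet ρ h ↔ ρ h x = x := by
  simp [fixedSet, sub_eq_zero]

theorem fixedSet_pow {ρ : Representation (ZMod p) H W} {h : H} {k : ℕ}
    (hk : k.Coprime (orderOf h)) : fixedSet ρ (h ^ k) = fixedSet ρ h := by
  have key : ∀ (g : H) (j : ℕ) (x : W), ρ g x = x → ρ (g ^ j) x = x := fun g j x hx => by
    induction j with
    | zero => simp
    | succ j ih => rw [pow_succ, map_mul, Module.End.mul_apply, hx, ih]
  ext x
  rw [mem_fixedSet, mem_fixedSet]
  refine ⟨fun hx => ?_, key h k x⟩
  obtain ⟨j, hj⟩ := exists_pow_eq_self_of_coprime hk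
  rw [← hj]
  exact key _ j x hx

/-- **The symplectic family.** -/
theorem exists_family_symplectic {n : ℕ} (hn : Nat.card H ∣ n) (hn0 : 0 < n) {M : Ideal AlgInt}
    (hM : Cfsg.IsPModular p M) (hH : ¬ p ∣ Nat.card H) (ρ : Representation (ZMod p) H W)
    (A : LinearMap.BilinForm (ZMod p) W) (halt : ∀ x, A x x = 0)
    (hinv : ∀ h x y, A (ρ h x) (ρ h y) = A x y) (hnd : ∀ x, (∀ y, A x y = 0) → x = 0) :
    ∃ β : ℕ → H → ℂ, IsBetaFamily n M (fun h => Nat.card (fixedSet ρ h)) (Nat.card W) β := by
  classical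
  have : Finite W := inferInstance
  obtain ⟨B, hBA, hBinv⟩ := exists_invariant_half hH ρ A halt hinv
  have hBnd : ∀ x, (∀ z, B x z = B z x) → x = 0 := fun x hx =>
    hnd x fun z => by rw [← hBA, hx z, sub_self]
  obtain ⟨d, τ, hτ⟩ := exists_twisted B hBnd
  have hd := hτ.dim_sq
  have hWp : IsPGroup p (Multiplicative W) := fun x => ⟨1, by
    rw [pow_one]
    apply Multiplicative.toAdd.injective
    rw [toAdd_pow, ← Nat.cast_smul_eq_nsmul (ZMod p), ZMod.natCast_self, zero_smul, toAdd_one]⟩
  obtain ⟨e, he⟩ := hWp.exists_card_eq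
  have hcard : Nat.card W = p ^ e := by
    rw [← he]; exact Nat.card_congr Multiplicative.ofAdd
  have hcop : (Nat.card H).Coprime d := by
    have h1 : (Nat.card H).Coprime (d ^ 2) := by
      rw [hd, ← Nat.card_eq_fintype_card, hcard]
      exact Nat.Coprime.pow_right _ ((Fact.out : p.Prime).coprime_iff_not_dvd.2 hH).symm
    exact (Nat.coprime_pow_right_iff two_pos _ _).1 h1
  -- the matrices
  let ω : H → W ≃+ W := fun g =>
    { toFun := ρ g, invFun := ρ g⁻¹, left_inv := ρ.inv_self_apply g, right_inv := ρ.self_inv_apply g,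
      map_add' := map_add (ρ g) }
  choose P hPdet hP using fun g => hτ.exists_intertwiner (ω := ω g) (hBinv g)
  have hPu : ∀ g, IsUnit (P g).det := fun g => (hPdet g).symm ▸ isUnit_one
  have hscal : ∀ g h, ∃ c : ℂ, P g * P h = c • P (g * h) := fun g h => by
    obtain ⟨c, hc⟩ := hτ.schur ((P (g * h))⁻¹ * (P g * P h)) fun x => by
      have e1 : P g * P h * τ x = τ (ρ (g * h) x) * (P g * P h) := by
        rw [mul_assoc, hP, ← mul_assoc, hP, mul_assoc]
        simp [ω, map_mul]
      have e2 : (P (g * h))⁻¹ * τ (ρ (g * h) x) = τ x * (P (g * h))⁻¹ := by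
        have := hP (g * h) x
        calc (P (g * h))⁻¹ * τ (ρ (g * h) x)
            = (P (g * h))⁻¹ * (τ (ρ (g * h) x) * P (g * h)) * (P (g * h))⁻¹ := by
              rw [mul_assoc, mul_assoc (τ _), mul_nonsing_inv _ (hPu _), mul_one]
          _ = (P (g * h))⁻¹ * (P (g * h) * τ x) * (P (g * h))⁻¹ := by rw [this]; rfl
          _ = _ := by rw [← mul_assoc, nonsing_inv_mul _ (hPu _), one_mul]
      rw [mul_assoc, e1, ← mul_assoc, e2, mul_assoc]
    exact ⟨c, by rw [← mul_nonsing_inv_cancel_left _ (P g * P h) (hPu (g * h)), hc, mul_smul_comm, mul_one]⟩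
  choose c hc using hscal
  obtain ⟨R, s, hR⟩ := exists_hom_of_projective hcop P hPdet c hc
  have hRτ : ∀ g x, R g * τ x = τ (ρ g x) * R g := fun g x => by
    rw [hR, smul_mul_assoc, hP, mul_smul_comm]; rfl
  let ψ : H → ℂ := fun g => (R g).trace
  have hψ : Cfsg.IsCharacter H ψ := by
    refine ⟨d, (Matrix.toLinAlgEquiv' (R := ℂ)).toMonoidHom.comp R, funext fun g => ?_⟩
    simp only [Representation.character, ψ]
    exact Matrix.trace_toLin'_eq (R g)
  -- absolute values
  have hψsq : ∀ g, ψ g * ψ g⁻¹ = (Nat.card (fixedSet ρ g) : ℂ) := fun g => by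
    have h1 := congrArg (fun N => (R g * N).trace) (hτ.avg_eq (R g⁻¹))
    simp only [Finset.mul_sum, trace_sum, mul_smul_comm, trace_smul, mul_one, smul_eq_mul] at h1
    have hterm : ∀ x, (R g * (τ x * R g⁻¹ * IsTwisted.inv' τ (fun x z => B x z) x)).trace =
        if x ∈ fixedSet ρ g then (d : ℂ) else 0 := fun x => by
      rw [← mul_assoc, ← mul_assoc, hRτ, mul_assoc (τ _) (R g), ← map_mul, mul_inv_cancel, map_one,
        mul_one]
      split_ifs with hx
      · rw [mem_fixedSet.1 hx, hτ.mul_inv', trace_one, Fintype.card_fin]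
      · exact hτ.trace_mul_inv' fun e => hx (mem_fixedSet.2 e)
    rw [Finset.sum_congr rfl fun x _ => hterm x, ← Finset.sum_filter, Finset.sum_const, nsmul_eq_mul,
      ← Fintype.card_subtype, ← Nat.card_eq_fintype_card (α := {x // x ∈ fixedSet ρ g})] at h1
    have hd0 : (d : ℂ) ≠ 0 := Nat.cast_ne_zero.2 hτ.pos.ne'
    have hd2 : (Fintype.card W : ℂ) = (d : ℂ) ^ 2 := by exact_mod_cast hd.symm
    rw [hd2, sq, mul_assoc, mul_div_cancel_left₀ _ hd0, mul_comm _ (d : ℂ), mul_assoc] at h1
    show (R g).trace * (R g⁻¹).trace = _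
    rw [mul_comm (R g).trace]
    exact (mul_left_cancel₀ hd0 h1).symm
  -- integrality of `ψ ^ 2 / |C|`
  have hint : ∀ g, IsIntegral ℤ (ψ g ^ 2 / (Nat.card (fixedSet ρ g) : ℂ)) := fun g => by
    set C := fixedSet ρ g with hC
    have hcomm : ∀ x : C, R g * τ x = τ x * R g := fun x => by
      rw [hRτ, mem_fixedSet.1 x.2]
    have hCne : (Nat.card C : ℂ) ≠ 0 := Nat.cast_ne_zero.2 Nat.card_pos.ne'
    let iτ : C → Matrix (Fin d) (Fin d) ℂ := fun x => IsTwisted.inv' τ (fun x z => B x z) x
    let E : Module.End ℂ (Matrix (Fin d) (Fin d) ℂ) :=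
      (Nat.card C : ℂ)⁻¹ • ∑ x : C, LinearMap.mulLeft ℂ (τ x) ∘ₗ LinearMap.mulRight ℂ (iτ x)
    let Φ : Module.End ℂ (Matrix (Fin d) (Fin d) ℂ) :=
      LinearMap.mulLeft ℂ (R g) ∘ₗ LinearMap.mulRight ℂ (R g)
    have hEa : ∀ N, E N = (Nat.card C : ℂ)⁻¹ • ∑ x : C, τ x * N * iτ x := fun N => by
      simp [E, mul_assoc]
    have hinvR : ∀ x : C, iτ x * R g = R g * iτ x := fun x => by
      simp only [iτ, IsTwisted.inv', smul_mul_assoc, mul_smul_comm, hRτ]
      rw [show ρ g (-(x : W)) = -(x : W) by rw [map_neg, mem_fixedSet.1 x.2]]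
    have hcommE : Commute E Φ := LinearMap.ext fun N => by
      simp only [Module.End.mul_apply, hEa, Φ, LinearMap.comp_apply, LinearMap.mulLeft_apply,
        LinearMap.mulRight_apply, mul_smul_comm, smul_mul_assoc, Finset.mul_sum, Finset.sum_mul]
      congr 1
      refine Finset.sum_congr rfl fun x _ => ?_
      calc τ x * (R g * (N * R g)) * iτ x = (τ x * R g) * N * (R g * iτ x) := by noncomm_ring
        _ = (R g * τ x) * N * (iτ x * R g) := by rw [hcomm, hinvR]
        _ = _ := by noncomm_ring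
    have hEz : ∀ (z : C) N, τ z * E N * iτ z = E N := fun z N => by
      rw [hEa, mul_smul_comm, smul_mul_assoc, Finset.mul_sum, Finset.sum_mul]
      congr 1
      refine Fintype.sum_equiv (Equiv.addLeft z) _ _ fun x => ?_
      simp only [Equiv.coe_addLeft, Submodule.coe_add]
      have hu : ∀ y : W, IsUnit (τ y) := fun y => IsUnit.of_mul_eq_one _ (hτ.mul_inv' y)
      have e : iτ x * iτ z = pc p (-B z x) • iτ (z + x) := by
        apply ((hu (z : W)).mul (hu (x : W))).mul_left_cancel
        rw [mul_assoc, ← mul_assoc (τ (x : W)), hτ.mul_inv', one_mul, hτ.mul_inv', hτ.map_mul,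
          smul_mul_smul_comm, mul_comm, pc_neg_mul, one_smul]
        exact (hτ.mul_inv' _).symm
      calc τ (z : W) * (τ (x : W) * N * iτ x) * iτ z = (τ (z : W) * τ (x : W)) * N * (iτ x * iτ z) := by
            noncomm_ring
        _ = _ := by
            rw [e, hτ.map_mul, smul_mul_assoc, smul_mul_smul_comm, mul_comm, pc_neg_mul, one_smul]
    have hEE : E * E = E := LinearMap.ext fun N => by
      rw [Module.End.mul_apply, hEa (E N), Finset.sum_congr rfl fun z _ => hEz z N, Finset.sum_const,
        Finset.card_univ, ← Nat.cast_smul_eq_nsmul ℂ, smul_smul, ← Nat.card_eq_fintype_card,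
        inv_mul_cancel₀ hCne, one_smul]
    set r := orderOf g
    have hRr : R g ^ r = 1 := by rw [← map_pow, pow_orderOf_eq_one, map_one]
    have hΦ : Φ ^ r = 1 := by
      rw [show Φ = LinearMap.mulLeft ℂ (R g) * LinearMap.mulRight ℂ (R g) from rfl,
        (show Commute (LinearMap.mulLeft ℂ (R g)) (LinearMap.mulRight ℂ (R g)) from
          LinearMap.ext fun N => by simp [mul_assoc]).mul_pow,
        LinearMap.pow_mulLeft, LinearMap.pow_mulRight, hRr, LinearMap.mulLeft_one, LinearMap.mulRight_one]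
      rfl
    have hQ : (E * Φ) ^ (r + 1) = E * Φ := by
      rw [hcommE.mul_pow, pow_succ Φ r, hΦ, one_mul]
      congr 1
      exact IsIdempotentElem.pow_succ_eq _ hEE
    have htr := isIntegral_trace_of_pow (E * Φ) (orderOf_pos g) hQ
    have hval : LinearMap.trace ℂ _ (E * Φ) = ψ g ^ 2 / (Nat.card C : ℂ) := by
      rw [LinearMap.trace_eq_matrix_trace ℂ (Matrix.stdBasis ℂ (Fin d) (Fin d)), trace,
        Fintype.sum_prod_type]
      have hdiag : ∀ a b, (LinearMap.toMatrix (Matrix.stdBasis ℂ (Fin d) (Fin d))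
          (Matrix.stdBasis ℂ (Fin d) (Fin d)) (E * Φ)).diag (a, b) =
          ((E * Φ) (Matrix.single a b (1 : ℂ))) a b := fun a b => by
        rw [diag_apply, LinearMap.toMatrix_apply, Matrix.stdBasis_eq_single]
        simp [Matrix.stdBasis]
      simp only [hdiag, Module.End.mul_apply, hEa, Φ, LinearMap.comp_apply, LinearMap.mulLeft_apply,
        LinearMap.mulRight_apply, Matrix.smul_apply, Matrix.sum_apply, smul_eq_mul, ← Finset.mul_sum]
      have hone : ∀ x : C, ∑ a, ∑ b, (τ (x : W) * (R g * (Matrix.single a b (1 : ℂ) * R g)) * iτ x :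
          Matrix (Fin d) (Fin d) ℂ) a b = (τ (x : W) * R g).trace * (R g * iτ x).trace := fun x => by
        rw [← IsTwisted.sum_single (τ x * R g) (R g * iτ x)]
        simp only [mul_assoc]
      rw [Finset.sum_congr rfl fun a _ => Finset.sum_comm, Finset.sum_comm,
        Finset.sum_congr rfl fun (x : C) _ => hone x, Finset.sum_eq_single (0 : C) ?_ (by simp),
        div_eq_inv_mul]
      · congr 1
        have h0 : IsTwisted.inv' τ (fun x z => B x z) 0 = 1 := by
          have := hτ.mul_inv' 0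
          rwa [hτ.map_zero, one_mul] at this
        show (τ ((0 : C) : W) * R g).trace * (R g * iτ 0).trace = _
        simp only [iτ, Submodule.coe_zero, hτ.map_zero, h0, one_mul, mul_one, ψ, sq]
      · intro x _ hx
        obtain ⟨z, hz⟩ : ∃ z : C, A x z ≠ 0 := by
          by_contra hcon
          push Not at hcon
          refine hx (Subtype.ext (hnd x fun y => ?_))
          -- average `y` into `C`
          let m : ℕ := orderOf g
          have hm : (m : ZMod p) ≠ 0 := fun h0 =>
            hH (((ZMod.natCast_eq_zero_iff _ _).1 h0).trans (orderOf_dvd_natCard g))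
          let S : W := ∑ i ∈ Finset.range m, ρ (g ^ i) y
          have hS : S ∈ C := mem_fixedSet.2 (by
            simp only [S, map_sum, ← Module.End.mul_apply, ← map_mul, ← pow_succ']
            obtain ⟨m', hm'⟩ : ∃ m', m = m' + 1 := ⟨m - 1, (Nat.sub_add_cancel (orderOf_pos g)).symm⟩
            rw [hm', Finset.sum_range_succ, Finset.sum_range_succ' (fun i => ρ (g ^ i) y), ← hm',
              pow_orderOf_eq_one, pow_zero])
          have hfix : ∀ i : ℕ, ρ (g ^ i) (x : W) = x := fun i => by
            induction i with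
            | zero => simp
            | succ i ih => rw [pow_succ, map_mul, Module.End.mul_apply, mem_fixedSet.1 x.2, ih]
          have h2 : A x S = (m : ZMod p) * A x y := by
            simp only [S, map_sum]
            rw [Finset.sum_congr rfl fun i _ => (by
              conv_lhs => rw [← hfix i]
              rw [hinv] : A x (ρ (g ^ i) y) = A x y), Finset.sum_const, Finset.card_range, nsmul_eq_mul]
          have h3 := hcon ⟨S, hS⟩
          rw [h2] at h3
          exact (mul_eq_zero.1 h3).resolve_left hm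
        refine mul_eq_zero_of_left (hτ.trace_eq_zero_of_conj (z := (z : W))
          (c := pc p (B z x - B x z)) ?_ ?_) _
        · rw [Ne, pc_eq_one_iff, ← neg_sub, neg_eq_zero, hBA]
          exact hz
        · rw [← mul_assoc, hτ.comm, smul_mul_assoc, mul_assoc, mul_assoc, hcomm]
    rw [← hval]; exact htr
  -- the family
  have hnat : ∀ a : ℕ, IsIntegral ℤ (a : ℂ) := fun a => by
    simpa using (isIntegral_algebraMap (R := ℤ) (A := ℂ) (x := (a : ℤ)))
  let b : H → ℂ := fun g => (d : ℂ) * ψ g / (Nat.card (fixedSet ρ g) : ℂ)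
  have hπ : ∀ g, ((Nat.card (fixedSet ρ g) : ℂ)) ≠ 0 := fun g => Nat.cast_ne_zero.2 Nat.card_pos.ne'
  have hdvd : ∀ g, Nat.card (fixedSet ρ g) ∣ Nat.card W := fun g =>
    AddSubgroup.card_addSubgroup_dvd_card (fixedSet ρ g).toAddSubgroup
  have hsq : ∀ g, b g ^ 2 = ((Nat.card W / Nat.card (fixedSet ρ g) : ℕ) : ℂ) *
      (ψ g ^ 2 / (Nat.card (fixedSet ρ g) : ℂ)) := fun g => by
    rw [Nat.cast_div (hdvd g) (hπ g), ← hd.trans Nat.card_eq_fintype_card.symm]
    simp only [b]
    push_cast
    ring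
  have hbint : ∀ g, IsIntegral ℤ (b g) := fun g => by
    refine IsIntegral.of_pow two_pos ?_
    rw [hsq]
    exact (hnat _).mul (hint g)
  have hperm : Cfsg.IsCharacter H (fun g => (Nat.card (fixedSet ρ g) : ℂ)) := by
    have e : (fun g => (Nat.card (fixedSet ρ g) : ℂ)) = ψ * fun g => conj (ψ g) := funext fun g => by
      rw [Pi.mul_apply, ← character_inv hψ, hψsq]
    rw [e]
    exact isCharacter_mul hψ (isCharacter_conj hψ)
  refine ⟨fun _ => b, { gal := ?_, virt := ?_, norm_sq := ?_, one := ?_, integral := hbint, mem := ?_ }⟩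
  · intro g
    have hg : g ^ n = 1 := orderOf_dvd_iff_pow_eq_one.1 ((orderOf_dvd_natCard g).trans hn)
    obtain ⟨Q, hQ⟩ := exists_poly_char hψ hn0 hg (isPrimitiveRoot_stdRoot hn0)
    refine (((isCyc_natConst d).mul ⟨Q, hQ⟩).isGal.mul
      (isGal_natInv (m := Nat.card (fixedSet ρ g)) Nat.card_pos)).congr fun k hk => ?_
    rw [← fixedSet_pow (ρ := ρ) (Nat.Coprime.coprime_dvd_right
      ((orderOf_dvd_natCard g).trans hn) hk)]
    rfl
  · intro k _
    refine intVirt_of_mul ?_ hbint (fun g => Nat.card (fixedSet ρ g)) hperm (fun g => ?_) ?_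
    · intro x g
      simp only [b]
      have h1 := isClassFunction_of_isCharacter hperm x g
      beta_reduce at h1
      rw [isClassFunction_of_isCharacter hψ x g, h1]
    · refine Nat.Coprime.coprime_dvd_left (hdvd g) ?_
      rw [hcard]
      exact Nat.Coprime.pow_left _ ((Fact.out : p.Prime).coprime_iff_not_dvd.2 hH)
    · have e : (fun g => (Nat.card (fixedSet ρ g) : ℂ) * b g) = fun g => (d : ℂ) * ψ g :=
        funext fun g => by simp only [b]; rw [mul_div_cancel₀ _ (hπ g)]
      rw [e]
      exact (intVirt_of_isCharacter hψ).smul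
        (hnat d)
  · intro k _ g
    have h1 := hψsq g
    rw [character_inv hψ, Complex.mul_conj'] at h1
    have h2 : ‖ψ g‖ ^ 2 = (Nat.card (fixedSet ρ g) : ℝ) := by exact_mod_cast h1
    have h3 : (Nat.card W : ℝ) = (d : ℝ) ^ 2 := by
      rw [Nat.card_eq_fintype_card, ← hd]; push_cast; rfl
    have h4 : (Nat.card (fixedSet ρ g) : ℝ) ≠ 0 := Nat.cast_ne_zero.2 Nat.card_pos.ne'
    simp only [b, norm_div, norm_mul, Complex.norm_natCast]
    rw [h3, div_pow, mul_pow, h2]
    field_simp
  · have htop : fixedSet ρ (1 : H) = ⊤ := by ext x; simp [mem_fixedSet]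
    simp only [b, ψ, map_one, trace_one, Fintype.card_fin, htop]
    rw [Nat.card_congr Submodule.topEquiv.toEquiv, Nat.card_eq_fintype_card, ← hd, div_eq_one_iff_eq
      (by exact_mod_cast pow_ne_zero 2 hτ.pos.ne')]
    push_cast; ring
  · intro g hg
    refine ⟨⟨b g, hbint g⟩, ?_, rfl⟩
    refine (CfsgLib.Blocks.IsPModular.isPrime hM).mem_of_pow_mem 2 ?_
    have hmem : ((Nat.card W / Nat.card (fixedSet ρ g) : ℕ) : AlgInt) ∈ M := by
      rw [CfsgLib.Blocks.IsPModular.natCast_mem_iff hM]
      obtain ⟨i, -, hi⟩ := (Nat.dvd_prime_pow Fact.out).1 ((Nat.div_dvd_of_dvd (hdvd g)).trans (dvd_of_eq hcard))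
      rw [hi]
      refine dvd_pow_self p fun h0 => hg ?_
      rw [h0, pow_zero] at hi
      have := Nat.mul_div_cancel' (hdvd g)
      rw [hi, mul_one] at this
      exact this
    have e : (⟨b g, hbint g⟩ : AlgInt) ^ 2 = ((Nat.card W / Nat.card (fixedSet ρ g) : ℕ) : AlgInt) *
        ⟨ψ g ^ 2 / (Nat.card (fixedSet ρ g) : ℂ), hint g⟩ := Subtype.ext (by
      push_cast
      exact hsq g)
    rw [e]
    exact M.mul_mem_right _ hmem

end CfsgLib.GaloisAverage
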