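import Mathlib
import Cfsg.Agent.GaloisAverage.RealVector.Symplectic

/-!
# The weight family of a coprime orthogonal module

For `h` in a coprime group fixing a nondegenerate symmetric form `S` the Gauss sums
`β k h = ∑ x in [W, h], ψ (k S x x)` have `|β k h|² = |[W, h]|` and form a weight family.
-/

set_option autoImplicit false
set_option linter.unusedSectionVars false
set_option linter.style.haveILetI false

namespace CfsgLib.GaloisAverage

open CfsgLib.Characters Cfsg
open scoped ComplexConjugate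

universe u v
variable {p : ℕ} [Fact p.Prime] {W : Type u} [AddCommGroup W] [Module (ZMod p) W] [Fintype W]
  {H : Type v} [Group H] [Fintype H]

/-- The image of `ρ h - 1`. -/
def moveSet (ρ : Representation (ZMod p) H W) (h : H) : Submodule (ZMod p) W :=
  LinearMap.range (ρ h - 1)

theorem moveSet_le_pow (ρ : Representation (ZMod p) H W) (h : H) :
    ∀ k : ℕ, moveSet ρ (h ^ k) ≤ moveSet ρ h := by
  intro k
  induction k with
  | zero => rintro _ ⟨y, rfl⟩; simp
  | succ k ih =>
    rintro _ ⟨y, rfl⟩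
    have e : (ρ (h ^ (k + 1)) - 1) y = (ρ (h ^ k) - 1) (ρ h y) + (ρ h - 1) y := by
      simp [pow_succ, map_mul]
    rw [e]
    exact Submodule.add_mem _ (ih ⟨_, rfl⟩) ⟨_, rfl⟩

theorem moveSet_pow {ρ : Representation (ZMod p) H W} {h : H} {k : ℕ}
    (hk : k.Coprime (orderOf h)) : moveSet ρ (h ^ k) = moveSet ρ h := by
  refine le_antisymm (moveSet_le_pow ρ h k) ?_
  obtain ⟨j, hj⟩ := exists_pow_eq_self_of_coprime hk
  conv_lhs => rw [← hj]
  exact moveSet_le_pow ρ _ j

/-- Fixed points and image are complements in coprime characteristic. -/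
theorem isCompl_fixedSet_moveSet (hH : ¬ p ∣ Nat.card H) (ρ : Representation (ZMod p) H W) (h : H) :
    IsCompl (fixedSet ρ h) (moveSet ρ h) := by
  have hm : (orderOf h : ZMod p) ≠ 0 := fun h0 =>
    hH (((ZMod.natCast_eq_zero_iff _ _).1 h0).trans (orderOf_dvd_natCard h))
  have hdisj : Disjoint (fixedSet ρ h) (moveSet ρ h) := by
    rw [Submodule.disjoint_def]
    rintro _ hx ⟨y, rfl⟩
    set x := (ρ h - 1) y with hxdef
    have hfix : ρ h x = x := mem_fixedSet.1 hx
    have key : ∀ i : ℕ, ρ (h ^ i) y = y + (i : ZMod p) • x := fun i => by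
      induction i with
      | zero => simp
      | succ i ih =>
        rw [pow_succ', map_mul, Module.End.mul_apply, ih, map_add, map_smul, hfix,
          show ρ h y = y + x by rw [hxdef]; simp]
        push_cast
        rw [add_smul, one_smul]; abel
    have h1 := key (orderOf h)
    rw [pow_orderOf_eq_one, map_one, Module.End.one_apply, left_eq_add, smul_eq_zero] at h1
    exact h1.resolve_left hm
  have hdim := LinearMap.finrank_range_add_finrank_ker (ρ h - 1)
  exact ⟨hdisj, codisjoint_iff.2 (Submodule.eq_top_of_disjoint _ _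
    (by rw [add_comm]; exact hdim.ge) hdisj)⟩

variable (S : LinearMap.BilinForm (ZMod p) W)

/-- The Gauss sum on a subspace. -/
noncomputable def gaussSum' (a : ZMod p) (N : Submodule (ZMod p) W) : ℂ :=
  haveI := Fintype.ofFinite N
  ∑ x : N, pc p (a * S x x)

theorem conj_pc (a : ZMod p) : conj (pc p a) = pc p (-a) := (AddChar.map_neg_eq_conj (pc p) a).symm

theorem conj_gaussSum (a : ZMod p) (N : Submodule (ZMod p) W) :
    conj (gaussSum' S a N) = gaussSum' S (-a) N := by
  simp only [gaussSum', map_sum, conj_pc, neg_mul]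

theorem gaussSum'_bot (a : ZMod p) : gaussSum' S a (⊥ : Submodule (ZMod p) W) = 1 := by
  simp only [gaussSum']
  refine (Finset.sum_eq_single (0 : (⊥ : Submodule (ZMod p) W))
    (fun x _ hx => absurd (Subtype.ext ((Submodule.mem_bot _).1 x.2)) hx)
    (fun hx => absurd (@Finset.mem_univ _ (Fintype.ofFinite _) _) hx)).trans ?_
  simp

theorem norm_sq_gaussSum (hp : p ≠ 2) (hS : ∀ x y, S x y = S y x) {a : ZMod p} (ha : a ≠ 0)
    (N : Submodule (ZMod p) W) (hN : ∀ x ∈ N, (∀ y ∈ N, S x y = 0) → x = 0) :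
    gaussSum' S a N * conj (gaussSum' S a N) = (Nat.card N : ℂ) := by
  classical
  letI := Fintype.ofFinite N
  rw [conj_gaussSum]
  simp only [gaussSum', Finset.sum_mul_sum]
  rw [Finset.sum_comm]
  have h2 : (2 : ZMod p) ≠ 0 := fun h0 => by
    have h1 : ((2 : ℕ) : ZMod p) = 0 := by exact_mod_cast h0
    exact hp ((Nat.prime_dvd_prime_iff_eq Fact.out Nat.prime_two).1 ((ZMod.natCast_eq_zero_iff _ _).1 h1))
  let χ : N → AddChar N ℂ := fun t => (pc p).compAddMonoidHom
    (((2 * a) • (S (t : W)).domRestrict N).toAddMonoidHom)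
  have hterm : ∀ y t : N, pc p (a * S (y + t : N) (y + t : N)) * pc p (-a * S y y) =
      pc p (a * S t t) * χ t y := fun y t => by
    simp only [χ, AddChar.compAddMonoidHom_apply, LinearMap.toAddMonoidHom_coe, LinearMap.smul_apply,
      LinearMap.domRestrict_apply, ← pc_add, Submodule.coe_add, map_add, LinearMap.add_apply,
      smul_eq_mul, hS (y : W) (t : W)]
    congr 1; ring
  calc ∑ y : N, ∑ x : N, pc p (a * S x x) * pc p (-a * S y y)
      = ∑ y : N, ∑ t : N, pc p (a * S t t) * χ t y := Finset.sum_congr rfl fun y _ =>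
        (Fintype.sum_equiv (Equiv.addLeft y) _ _ fun t => (hterm y t).symm).symm
    _ = ∑ t : N, pc p (a * S t t) * ∑ y : N, χ t y := by
        rw [Finset.sum_comm]; simp only [Finset.mul_sum]
    _ = _ := by
        rw [Finset.sum_eq_single (0 : N) ?_ (by simp)]
        · simp [χ, Nat.card_eq_fintype_card]
        · intro t _ ht
          refine mul_eq_zero_of_right _ (AddChar.sum_eq_zero_iff_ne_zero.2 fun h0 => ?_)
          refine ht (Subtype.ext (hN t t.2 fun y hy => ?_))
          have h1 := DFunLike.congr_fun h0 ⟨y, hy⟩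
          simp only [χ, AddChar.compAddMonoidHom_apply, LinearMap.toAddMonoidHom_coe,
            LinearMap.smul_apply, LinearMap.domRestrict_apply, AddChar.zero_apply, pc_eq_one_iff,
            smul_eq_mul, mul_eq_zero, h2, ha, or_false, false_or] at h1
          exact h1

theorem gaussSum_split {C R : Submodule (ZMod p) W} (hCR : IsCompl C R)
    (horth : ∀ x ∈ C, ∀ y ∈ R, S x y = 0) (hS : ∀ x y, S x y = S y x) (a : ZMod p) :
    gaussSum' S a ⊤ = gaussSum' S a C * gaussSum' S a R := by
  classical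
  letI := Fintype.ofFinite C; letI := Fintype.ofFinite R
  letI := Fintype.ofFinite (⊤ : Submodule (ZMod p) W)
  simp only [gaussSum', Finset.sum_mul_sum]
  rw [← Fintype.sum_prod_type']
  refine (Fintype.sum_equiv ((Submodule.prodEquivOfIsCompl C R hCR).trans
    Submodule.topEquiv.symm).toEquiv _ _ fun x => ?_).symm
  rw [← pc_add]
  congr 1
  simp [horth _ x.1.2 _ x.2.2, hS (x.2 : W) (x.1 : W), mul_add]

/-- Points fixed in an invariant set give a character. -/
theorem isCharacter_card_fixed {Y : Type*} [Finite Y] [MulAction H Y] :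
    Cfsg.IsCharacter H (fun h => (Nat.card {y : Y // h • y = y} : ℂ)) := by
  classical
  letI := Fintype.ofFinite Y
  let ρ : Representation ℂ H (Y → ℂ) :=
    { toFun := fun g => LinearMap.funLeft ℂ ℂ fun x => g⁻¹ • x
      map_one' := by ext f x; simp [LinearMap.funLeft]
      map_mul' := fun a b => by ext f x; simp [LinearMap.funLeft, mul_smul] }
  have h : ρ.character = fun h => (Nat.card {y : Y // h • y = y} : ℂ) := by
    funext g
    rw [Representation.character, LinearMap.trace_eq_matrix_trace ℂ (Pi.basisFun ℂ Y)]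
    simp only [Matrix.trace, Matrix.diag, LinearMap.toMatrix_apply, Pi.basisFun_apply, Pi.basisFun_repr]
    change (∑ x, (Pi.single x (1 : ℂ) : Y → ℂ) (g⁻¹ • x)) = _
    simp only [Pi.single_apply, Finset.sum_boole]
    rw [← Nat.card_eq_finsetCard]
    congr 1
    exact Nat.card_congr (Equiv.subtypeEquivRight fun x => by simp [eq_inv_smul_iff, eq_comm])
  exact h ▸ CfsgLib.Characters.isCharacter_character ρ

/-- **The orthogonal family.** -/
theorem exists_family_orthogonal {n : ℕ} (hn : Nat.card H ∣ n) (hpn : p ∣ n) (hn0 : 0 < n)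
    {M : Ideal AlgInt} (hM : Cfsg.IsPModular p M) (hH : ¬ p ∣ Nat.card H)
    (ρ : Representation (ZMod p) H W) (hS : ∀ x y, S x y = S y x)
    (hinv : ∀ h x y, S (ρ h x) (ρ h y) = S x y) (hnd : ∀ x, (∀ y, S x y = 0) → x = 0)
    (h2 : p = 2 → ∀ h x, ρ h x = x) :
    ∃ β : ℕ → H → ℂ, IsBetaFamily n M (fun h => Nat.card (fixedSet ρ h)) (Nat.card W) β := by
  classical
  by_cases hp : p = 2
  · have hall : ∀ h, Nat.card (fixedSet ρ h) = Nat.card W := fun h => by
      rw [show fixedSet ρ h = ⊤ from eq_top_iff.2 fun x _ => mem_fixedSet.2 (h2 hp h x),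
        Nat.card_congr Submodule.topEquiv.toEquiv]
    exact ⟨fun _ _ => 1,
      { gal := fun h => ((isCyc_natConst 1).isGal).congr fun k _ => by simp
        virt := fun k _ => intVirt_of_isCharacter isCharacter_one
        norm_sq := fun k _ h => by rw [norm_one, one_pow, one_mul, hall h]
        one := rfl
        integral := fun h => isIntegral_one
        mem := fun h hh => absurd (hall h) hh }⟩
  have hcoprime : ∀ k : ℕ, k.Coprime n → ((k : ZMod p)) ≠ 0 := fun k hk h0 =>
    ((Fact.out : p.Prime).coprime_iff_not_dvd.1 (hk.symm.coprime_dvd_left hpn))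
      ((ZMod.natCast_eq_zero_iff _ _).1 h0)
  have horth : ∀ h, ∀ x ∈ fixedSet ρ h, ∀ y ∈ moveSet ρ h, S x y = 0 := by
    rintro h x hx _ ⟨y, rfl⟩
    have := hinv h x y
    rw [mem_fixedSet.1 hx] at this
    simp [this]
  have hCR := isCompl_fixedSet_moveSet hH ρ
  have hndR : ∀ h, ∀ x ∈ moveSet ρ h, (∀ y ∈ moveSet ρ h, S x y = 0) → x = 0 := fun h x hx hxy => by
    refine hnd x fun y => ?_
    obtain ⟨c, hc, r, hr, rfl⟩ := Submodule.mem_sup.1 ((hCR h).sup_eq_top ▸ Submodule.mem_top (x := y))
    rw [map_add, hxy r hr, hS x c, horth h c hc x hx, add_zero]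
  have hndC : ∀ h, ∀ x ∈ fixedSet ρ h, (∀ y ∈ fixedSet ρ h, S x y = 0) → x = 0 := fun h x hx hxy => by
    refine hnd x fun y => ?_
    obtain ⟨c, hc, r, hr, rfl⟩ := Submodule.mem_sup.1 ((hCR h).sup_eq_top ▸ Submodule.mem_top (x := y))
    rw [map_add, hxy c hc, horth h x hx r hr, add_zero]
  let β : ℕ → H → ℂ := fun k h => gaussSum' S (k : ZMod p) (moveSet ρ h)
  have hpc : ∀ a : ZMod p, IsIntegral ℤ (pc p a) := fun a =>
    IsIntegral.of_pow (Fact.out : p.Prime).pos (by rw [pc_pow_eq_one]; exact isIntegral_one)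
  have hint : ∀ k h, IsIntegral ℤ (β k h) := fun k h => IsIntegral.sum _ fun x _ => hpc _
  have hnat : ∀ a : ℕ, IsIntegral ℤ (a : ℂ) := fun a => by
    simpa using (isIntegral_algebraMap (R := ℤ) (A := ℂ) (x := (a : ℤ)))
  have hcard : ∀ h, Nat.card (fixedSet ρ h) * Nat.card (moveSet ρ h) = Nat.card W := fun h => by
    rw [← Nat.card_prod]
    exact Nat.card_congr (Submodule.prodEquivOfIsCompl _ _ (hCR h)).toEquiv
  have hWp : IsPGroup p (Multiplicative W) := fun x => ⟨1, by
    rw [pow_one]
    apply Multiplicative.toAdd.injective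
    rw [toAdd_pow, ← Nat.cast_smul_eq_nsmul (ZMod p), ZMod.natCast_self, zero_smul, toAdd_one]⟩
  obtain ⟨ee, he⟩ := hWp.exists_card_eq
  rw [Nat.card_congr Multiplicative.toAdd] at he
  -- permutation characters on the levels of `S`
  let πa : ZMod p → H → ℂ := fun a h => (Nat.card {x : W // S x x = a ∧ ρ h x = x} : ℂ)
  have hπa : ∀ a, Cfsg.IsCharacter H (πa a) := fun a => by
    letI : MulAction H {x : W // S x x = a} :=
      { smul := fun h x => ⟨ρ h x.1, by rw [hinv, x.2]⟩
        one_smul := fun x => Subtype.ext (by show ρ 1 x.1 = x.1; simp)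
        mul_smul := fun g h x => Subtype.ext (by show ρ (g * h) x.1 = ρ g (ρ h x.1); simp [map_mul]) }
    have e : πa a = fun h => (Nat.card {y : {x : W // S x x = a} // h • y = y} : ℂ) := funext fun h => by
      simp only [πa]
      congr 1
      exact Nat.card_congr
        { toFun := fun x => ⟨⟨x.1, x.2.1⟩, Subtype.ext x.2.2⟩
          invFun := fun y => ⟨y.1.1, y.1.2, congrArg Subtype.val y.2⟩
          left_inv := fun x => rfl
          right_inv := fun y => rfl }
    rw [e]
    exact isCharacter_card_fixed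
  have hfix : ∀ (c : ZMod p) h, gaussSum' S c (fixedSet ρ h) = ∑ a, pc p (c * a) * πa a h := by
    intro c h
    simp only [gaussSum', πa]
    letI := Fintype.ofFinite (fixedSet ρ h)
    rw [← Finset.sum_fiberwise (s := Finset.univ) (fun x : fixedSet ρ h => S (x : W) (x : W))]
    refine Finset.sum_congr rfl fun a _ => ?_
    rw [Finset.sum_congr rfl fun x hx => by rw [(Finset.mem_filter.1 hx).2], Finset.sum_const,
      nsmul_eq_mul, mul_comm, ← Fintype.card_subtype, ← Nat.card_eq_fintype_card]
    congr 2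
    exact Nat.card_congr
      { toFun := fun x => ⟨x.1.1, x.2, mem_fixedSet.1 x.1.2⟩
        invFun := fun y => ⟨⟨y.1, mem_fixedSet.2 y.2.2⟩, y.2.1⟩
        left_inv := fun x => rfl
        right_inv := fun y => rfl }
  have hCchar : Cfsg.IsCharacter H (fun h => (Nat.card (fixedSet ρ h) : ℂ)) := by
    have e : (fun h => (Nat.card (fixedSet ρ h) : ℂ)) = ∑ a, πa a := funext fun h => by
      rw [Finset.sum_apply]
      have := hfix 0 h
      simp only [gaussSum', zero_mul, pc_zero, one_mul, Finset.sum_const, Finset.card_univ,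
        nsmul_eq_mul, mul_one, ← Nat.card_eq_fintype_card] at this
      exact this
    rw [e]
    exact isCharacter_sum _ _ fun a _ => hπa a
  have hcl : ∀ k, Cfsg.IsClassFunction H (β k) := fun k x g => by
    simp only [β, gaussSum']
    letI := Fintype.ofFinite (moveSet ρ x)
    letI := Fintype.ofFinite (moveSet ρ (g * x * g⁻¹))
    refine (Fintype.sum_equiv
      { toFun := fun z => (⟨ρ g z.1, by
          obtain ⟨y, hy⟩ := z.2
          exact ⟨ρ g y, by rw [← hy]; simp [map_mul]⟩⟩ : moveSet ρ (g * x * g⁻¹))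
        invFun := fun z => ⟨ρ g⁻¹ z.1, by
          obtain ⟨y, hy⟩ := z.2
          exact ⟨ρ g⁻¹ y, by rw [← hy]; simp [map_mul]⟩⟩
        left_inv := fun z => Subtype.ext (ρ.inv_self_apply g z.1)
        right_inv := fun z => Subtype.ext (ρ.self_inv_apply g z.1) } _ _ fun z => ?_).symm
    simp [hinv]
  refine ⟨β, { gal := ?_, virt := ?_, norm_sq := ?_, one := ?_, integral := hint 1, mem := ?_ }⟩
  · intro h
    letI := Fintype.ofFinite (moveSet ρ h)
    refine (isCyc_sum Finset.univ (fun (x : moveSet ρ h) k => pc p (S x x) ^ k) fun x _ =>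
      isCyc_rootPow hn0 ?_).isGal.congr fun k hk => ?_
    · obtain ⟨c, rfl⟩ := hpn
      rw [pow_mul, pc_pow_eq_one, one_pow]
    · simp only [β]
      rw [moveSet_pow (ρ := ρ) (Nat.Coprime.coprime_dvd_right ((orderOf_dvd_natCard h).trans hn) hk)]
      simp only [gaussSum', ← AddChar.map_nsmul_eq_pow, nsmul_eq_mul]
  · intro k hk
    refine intVirt_of_mul (hcl k) (hint k) (fun h => Nat.card (fixedSet ρ h)) hCchar (fun h => ?_) ?_
    · refine Nat.Coprime.coprime_dvd_left ⟨_, (hcard h).symm⟩ ?_
      rw [he]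
      exact Nat.Coprime.pow_left _ ((Fact.out : p.Prime).coprime_iff_not_dvd.2 hH)
    · have e : (fun h => (Nat.card (fixedSet ρ h) : ℂ) * β k h) =
          fun h => gaussSum' S (k : ZMod p) ⊤ * ∑ a, pc p (-(k : ZMod p) * a) * πa a h := funext fun h => by
        rw [gaussSum_split S (hCR h) (horth h) hS, ← hfix, ← conj_gaussSum,
          ← norm_sq_gaussSum S hp hS (hcoprime k hk) (fixedSet ρ h) (hndC h)]
        simp only [β]; ring
      rw [e]
      exact (intVirt_sum _ _ fun a _ => (intVirt_of_isCharacter (hπa a)).smul (hpc _)).smul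
        (IsIntegral.sum _ fun x _ => hpc _)
  · intro k hk h
    have h1 := norm_sq_gaussSum S hp hS (hcoprime k hk) (moveSet ρ h) (hndR h)
    rw [Complex.mul_conj'] at h1
    have h3 : ‖β k h‖ ^ 2 = (Nat.card (moveSet ρ h) : ℝ) := by exact_mod_cast h1
    rw [h3, ← hcard h]
    push_cast; ring
  · have hbot : moveSet ρ (1 : H) = ⊥ := by
      rw [moveSet, map_one, sub_self, LinearMap.range_zero]
    show gaussSum' S ((1 : ℕ) : ZMod p) (moveSet ρ (1 : H)) = 1
    rw [hbot]
    exact gaussSum'_bot S _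
  · intro h hh
    haveI := hM.2.1
    haveI : CharP (AlgInt ⧸ M) p := (CharP.charP_iff_prime_eq_zero Fact.out).2 (by
      rw [← map_natCast (Ideal.Quotient.mk M), Ideal.Quotient.eq_zero_iff_mem,
        CfsgLib.Blocks.IsPModular.natCast_mem_iff hM])
    haveI : IsDomain (AlgInt ⧸ M) := (Ideal.Quotient.isDomain_iff_prime M).2
      (CfsgLib.Blocks.IsPModular.isPrime hM)
    refine ⟨⟨β 1 h, hint 1 h⟩, ?_, rfl⟩
    have e : (⟨β 1 h, hint 1 h⟩ : AlgInt) =
        ∑ x : moveSet ρ h, (⟨pc p (((1 : ℕ) : ZMod p) * S x x), hpc _⟩ : AlgInt) := Subtype.ext (by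
      simp only [β, gaussSum', AddSubmonoidClass.coe_finsetSum]
      exact Finset.sum_congr (by ext; simp) fun _ _ => rfl)
    rw [← Ideal.Quotient.eq_zero_iff_mem, e, map_sum]
    have h1 : ∀ a : ZMod p, Ideal.Quotient.mk M (⟨pc p a, hpc a⟩ : AlgInt) = 1 := fun a => by
      rw [← sub_eq_zero]
      refine eq_zero_of_pow_eq_zero (n := p) ?_
      rw [sub_pow_char, ← map_pow, one_pow, sub_eq_zero]
      rw [show (⟨pc p a, hpc a⟩ : AlgInt) ^ p = 1 from Subtype.ext (by push_cast; exact pc_pow_eq_one a),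
        map_one]
    simp only [h1, Finset.sum_const, Finset.card_univ, nsmul_eq_mul, mul_one]
    rw [← map_natCast (Ideal.Quotient.mk M), Ideal.Quotient.eq_zero_iff_mem,
      CfsgLib.Blocks.IsPModular.natCast_mem_iff hM, ← Nat.card_eq_fintype_card]
    obtain ⟨i, -, hi⟩ := (Nat.dvd_prime_pow Fact.out).1
      ((Dvd.intro_left _ (hcard h)).trans (dvd_of_eq he) : Nat.card (moveSet ρ h) ∣ p ^ ee)
    rw [hi]
    refine dvd_pow_self p fun h0 => hh ?_
    have h2 := hcard h
    rwa [hi, h0, pow_zero, mul_one] at h2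

end CfsgLib.GaloisAverage
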