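import Mathlib
import Cfsg.Agent.GaloisAverage.RealVector.Orthogonal
import Cfsg.Agent.S4966

/-!
# The real vector criterion for `k(GV)`
-/

set_option autoImplicit false
set_option linter.unusedSectionVars false
set_option linter.style.haveILetI false

namespace CfsgLib.GaloisAverage

open CfsgLib.Characters Cfsg

universe u v

/-- A faithful self-dual coprime module has a weight family. -/
theorem exists_family_selfDual {p : ℕ} [Fact p.Prime] {W : Type u} [AddCommGroup W]
    [Module (ZMod p) W] [Fintype W] {H : Type v} [Group H] [Fintype H] {n : ℕ}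
    (hn : Nat.card H ∣ n) (hpn : p ∣ n) (hn0 : 0 < n) {M : Ideal AlgInt}
    (hM : Cfsg.IsPModular p M) (hH : ¬ p ∣ Nat.card H) (ρ : Representation (ZMod p) H W)
    (B : LinearMap.BilinForm (ZMod p) W) (hB : B.Nondegenerate)
    (hBinv : ∀ g x y, B (ρ g x) (ρ g y) = B x y) :
    ∃ β : ℕ → H → ℂ, IsBetaFamily n M (fun h => Nat.card (fixedSet ρ h)) (Nat.card W) β := by
  classical
  obtain ⟨U, U', hc, hU, hU', ⟨A, hAalt, hAinv, hAnd⟩, ⟨S, hSsymm, hSinv, hSnd⟩, h2⟩ :=
    Cfsg.Agent.S4966.result p hH ρ B hB hBinv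
  let ρ₁ : Representation (ZMod p) H U :=
    { toFun := fun g => (ρ g).restrict (hU g)
      map_one' := LinearMap.ext fun x => Subtype.ext (by simp)
      map_mul' := fun a b => LinearMap.ext fun x => Subtype.ext (by simp [map_mul]) }
  let ρ₂ : Representation (ZMod p) H U' :=
    { toFun := fun g => (ρ g).restrict (hU' g)
      map_one' := LinearMap.ext fun x => Subtype.ext (by simp)
      map_mul' := fun a b => LinearMap.ext fun x => Subtype.ext (by simp [map_mul]) }
  letI := Fintype.ofFinite U; letI := Fintype.ofFinite U'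
  obtain ⟨β₁, h₁⟩ := exists_family_symplectic hn hn0 hM hH ρ₁
    (A.domRestrict₁₂ U U) (fun x => hAalt x) (fun g x y => hAinv g x x.2 y y.2)
    (fun x hx => Subtype.ext (hAnd x x.2 fun y hy => hx ⟨y, hy⟩))
  obtain ⟨β₂, h₂⟩ := exists_family_orthogonal (S.domRestrict₁₂ U' U') hn hpn hn0 hM hH ρ₂
    (fun x y => hSsymm x y) (fun g x y => hSinv g x x.2 y y.2)
    (fun x hx => Subtype.ext (hSnd x x.2 fun y hy => hx ⟨y, hy⟩))
    (fun hp g x => Subtype.ext (h2 hp g x x.2))
  let e := Submodule.prodEquivOfIsCompl U U' hc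
  have hN : Nat.card U * Nat.card U' = Nat.card W := by
    rw [← Nat.card_prod]; exact Nat.card_congr e.toEquiv
  have hcf : ∀ g, Nat.card (fixedSet ρ₁ g) * Nat.card (fixedSet ρ₂ g) = Nat.card (fixedSet ρ g) := by
    intro g
    rw [← Nat.card_prod]
    refine Nat.card_congr (Equiv.ofBijective (fun x => (⟨(x.1.1 : W) + (x.2.1 : W), ?_⟩ : fixedSet ρ g))
      ⟨?_, ?_⟩)
    · rw [mem_fixedSet, map_add]
      exact congrArg₂ (· + ·) (congrArg Subtype.val (mem_fixedSet.1 x.1.2))
        (congrArg Subtype.val (mem_fixedSet.1 x.2.2))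
    · intro x y hxy
      have h := e.injective (a₁ := (x.1.1, x.2.1)) (a₂ := (y.1.1, y.2.1))
        (by simpa [e] using congrArg Subtype.val hxy)
      exact Prod.ext (Subtype.ext (congrArg Prod.fst h)) (Subtype.ext (congrArg Prod.snd h))
    · rintro ⟨w, hw⟩
      obtain ⟨⟨a, b⟩, rfl⟩ := e.surjective w
      have hw' : ρ g ((a : W) + b) = (a : W) + b := by simpa [e] using mem_fixedSet.1 hw
      have h := e.injective (a₁ := (ρ₁ g a, ρ₂ g b)) (a₂ := (a, b))
        (by simpa [e, ρ₁, ρ₂] using hw')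
      exact ⟨⟨⟨a, mem_fixedSet.2 (congrArg Prod.fst h)⟩, ⟨b, mem_fixedSet.2 (congrArg Prod.snd h)⟩⟩,
        Subtype.ext (by simp [e])⟩
  refine ⟨fun k h => β₁ k h * β₂ k h, ?_⟩
  have h := h₁.mul h₂
  simp only [hcf, hN] at h
  exact h

variable {X : Type u} [Group X] [Finite X]

/-- **The real vector criterion.** -/
theorem class_number_le_of_real_vector {p : ℕ} [Fact p.Prime] (V : Subgroup X) [V.Normal]
    (hexp : ∀ v ∈ V, v ^ p = 1) (hidx : ¬ p ∣ V.index)
    (hself : Subgroup.centralizer (V : Set X) = V) (G : Subgroup X)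
    (hGV : Subgroup.IsComplement' V G) (v : X) (hv : v ∈ V) (U : Subgroup X) (hUV : U ≤ V)
    (hUinv : ∀ h ∈ G, h * v * h⁻¹ = v → ∀ u ∈ U, h * u * h⁻¹ ∈ U)
    (hUfaith : ∀ h ∈ G, h * v * h⁻¹ = v → (∀ u ∈ U, h * u * h⁻¹ = u) → h = 1)
    (β : X → X → ZMod p)
    (hβl : ∀ u ∈ U, ∀ u' ∈ U, ∀ w ∈ U, β (u * u') w = β u w + β u' w)
    (hβr : ∀ u ∈ U, ∀ w ∈ U, ∀ w' ∈ U, β u (w * w') = β u w + β u w')
    (hβinv : ∀ h ∈ G, h * v * h⁻¹ = v → ∀ u ∈ U, ∀ w ∈ U, β (h * u * h⁻¹) (h * w * h⁻¹) = β u w)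
    (hβnd : ∀ u ∈ U, (∀ w ∈ U, β u w = 0) → u = 1) :
    Nat.card (ConjClasses X) ≤ Nat.card V := by
  classical
  have habV : ∀ a ∈ V, ∀ b ∈ V, a * b = b * a := fun a ha b hb => by
    have h1 : b ∈ Subgroup.centralizer (V : Set X) := by rw [hself]; exact hb
    exact Subgroup.mem_centralizer_iff.1 h1 a ha
  have hVp : IsPGroup p V := fun a => ⟨1, Subtype.ext (by simpa using hexp a a.2)⟩
  rcases eq_or_ne V ⊥ with rfl | hV
  · have htop : (⊤ : Subgroup X) ≤ ⊥ := hself ▸ fun x _ =>
      Subgroup.mem_centralizer_iff.2 fun y hy => by simp [Subgroup.mem_bot.1 hy]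
    haveI : Subsingleton X := ⟨fun a b => by
      rw [Subgroup.mem_bot.1 (htop (Subgroup.mem_top a)), Subgroup.mem_bot.1 (htop (Subgroup.mem_top b))]⟩
    exact (Nat.card_le_card_of_surjective _ ConjClasses.mk_surjective).trans
      (Nat.card_le_card_of_injective (fun x : X => (⟨1, Subgroup.one_mem _⟩ : (⊥ : Subgroup X)))
        (Function.injective_of_subsingleton _))
  obtain ⟨e, he⟩ := hVp.exists_card_eq
  have hpV : p ∣ Nat.card V := by
    rw [he]
    refine dvd_pow_self p fun h0 => hV ?_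
    rw [h0, pow_zero] at he
    exact Subgroup.eq_bot_of_card_eq V he
  have hG : ¬ p ∣ Nat.card G := by rwa [← hGV.symm.index_eq_card]
  have hcop : (Nat.card V).Coprime (Nat.card G) := by
    rw [he]
    exact Nat.Coprime.pow_left _ ((Fact.out : p.Prime).coprime_iff_not_dvd.2 hG)
  set H := G ⊓ Subgroup.centralizer ({v} : Set X) with hH
  letI : Fintype H := Fintype.ofFinite H
  have hHp : ¬ p ∣ Nat.card H := fun h => hG (h.trans (Subgroup.card_dvd_of_le inf_le_left))
  have hfixv : ∀ h : H, (h : X) * v * (h : X)⁻¹ = v := fun h => by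
    rw [Subgroup.mem_centralizer_singleton_iff.1 h.2.2, mul_inv_cancel_right]
  -- the module
  letI : CommGroup U := { (inferInstance : Group U) with
    mul_comm := fun a b => Subtype.ext (habV a (hUV a.2) b (hUV b.2)) }
  have hpU : ∀ x : Additive U, p • x = 0 := fun x =>
    Additive.toMul.injective (Subtype.ext (by simpa using hexp _ (hUV (Additive.toMul x).2)))
  letI : Module (ZMod p) (Additive U) := AddCommGroup.zmodModule (n := p) hpU
  letI : Fintype (Additive U) := Fintype.ofFinite _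
  let act : H → Additive U →+ Additive U := fun h =>
    { toFun := fun u => Additive.ofMul ⟨(h : X) * (Additive.toMul u : U) * (h : X)⁻¹,
        hUinv h h.2.1 (hfixv h) _ (Additive.toMul u).2⟩
      map_zero' := Additive.toMul.injective (Subtype.ext (by simp))
      map_add' := fun a b => Additive.toMul.injective (Subtype.ext (by simp [mul_assoc])) }
  let ρ₀ : H → Module.End (ZMod p) (Additive U) := fun h => (act h).toZModLinearMap p
  have hρ1 : ρ₀ 1 = 1 := LinearMap.ext fun u => Additive.toMul.injective (Subtype.ext (by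
    simp [ρ₀, act]))
  have hρm : ∀ a b, ρ₀ (a * b) = ρ₀ a * ρ₀ b := fun a b => LinearMap.ext fun u =>
    Additive.toMul.injective (Subtype.ext (by simp [ρ₀, act, mul_assoc]))
  let ρ : Representation (ZMod p) H (Additive U) := ⟨⟨ρ₀, hρ1⟩, hρm⟩
  let F : Additive U → Additive U → ZMod p := fun a b =>
    β (Additive.toMul a : U) (Additive.toMul b : U)
  have hFl : ∀ a a' b, F (a + a') b = F a b + F a' b := fun a a' b =>
    hβl _ (Additive.toMul a).2 _ (Additive.toMul a').2 _ (Additive.toMul b).2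
  have hFr : ∀ a b b', F a (b + b') = F a b + F a b' := fun a b b' =>
    hβr _ (Additive.toMul a).2 _ (Additive.toMul b).2 _ (Additive.toMul b').2
  let B : LinearMap.BilinForm (ZMod p) (Additive U) :=
    LinearMap.mk₂ (ZMod p) F hFl
      (fun c a b => ((AddMonoidHom.mk' (fun x => F x b) (fun x y => hFl x y b)).toZModLinearMap p).map_smul c a)
      hFr
      (fun c a b => ((AddMonoidHom.mk' (F a) (hFr a)).toZModLinearMap p).map_smul c b)
  have hBnd : B.Nondegenerate := by
    refine LinearMap.BilinForm.Nondegenerate.ofSeparatingLeft fun a ha => ?_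
    exact Additive.toMul.injective (Subtype.ext (hβnd _ (Additive.toMul a).2 fun w hw =>
      ha (Additive.ofMul ⟨w, hw⟩)))
  obtain ⟨M, hM⟩ := CfsgLib.Blocks.exists_isPModular p Fact.out
  have hVX : Nat.card V ∣ Nat.card X := Subgroup.card_subgroup_dvd_card V
  obtain ⟨γ, hγ⟩ := exists_family_selfDual (n := Nat.card X) (Subgroup.card_subgroup_dvd_card H)
    (hpV.trans hVX) Nat.card_pos hM hHp ρ B hBnd
    (fun h a b => hβinv h h.2.1 (hfixv h) _ (Additive.toMul a).2 _ (Additive.toMul b).2)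
  have hfix : ∀ (h : H) (a : Additive U), a ∈ fixedSet ρ h ↔
      (h : X) * (Additive.toMul a : U) * (h : X)⁻¹ = (Additive.toMul a : U) := fun h a => by
    rw [mem_fixedSet]
    exact ⟨fun e => congrArg (fun z => ((Additive.toMul z : U) : X)) e,
      fun e => Additive.toMul.injective (Subtype.ext e)⟩
  have hcard : ∀ h : H, Nat.card (fixedSet ρ h) =
      Nat.card ↥(U ⊓ Subgroup.centralizer ({(h : X)} : Set X)) := fun h =>
    Nat.card_congr
      { toFun := fun a => ⟨(Additive.toMul a.1 : U), (Additive.toMul a.1).2,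
          Subgroup.mem_centralizer_singleton_iff.2 (mul_inv_eq_iff_eq_mul.1 ((hfix h a.1).1 a.2)).symm⟩
        invFun := fun z => ⟨Additive.ofMul ⟨z.1, z.2.1⟩, (hfix h _).2 (by
          simp [← Subgroup.mem_centralizer_singleton_iff.1 z.2.2])⟩
        left_inv := fun a => rfl
        right_inv := fun z => rfl }
  refine class_number_le_of_family hM V hVp habV hidx G hGV hcop hv H hH hHp
    (fun h => Nat.card (fixedSet ρ h)) (Nat.card (Additive U)) γ hγ ?_ ?_ (fun h => Nat.card_pos)
  · intro h hh hc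
    refine hh (Subtype.ext (hUfaith h h.2.1 (hfixv h) fun u hu => ?_))
    have htop := Submodule.eq_top_of_finrank_eq (S := fixedSet ρ h) (by
      have h1 := Module.natCard_eq_pow_finrank (K := ZMod p) (V := fixedSet ρ h)
      have h2 := Module.natCard_eq_pow_finrank (K := ZMod p) (V := Additive U)
      rw [hc, h2, Nat.card_zmod] at h1
      exact (Nat.pow_right_injective (Fact.out : p.Prime).two_le h1).symm)
    exact (hfix h (Additive.ofMul ⟨u, hu⟩)).1 (htop ▸ Submodule.mem_top)
  · intro h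
    rw [hcard, show Nat.card (Additive U) = Nat.card U from Nat.card_congr Additive.toMul]
    set C := Subgroup.centralizer ({(h : X)} : Set X)
    have h1 : Nat.card ↥(U ⊓ C) * (U ⊓ C).relIndex (V ⊓ C) = Nat.card ↥(V ⊓ C) := by
      rw [← Subgroup.relIndex_bot_left, ← Subgroup.relIndex_bot_left]
      exact Subgroup.relIndex_mul_relIndex _ _ _ bot_le (inf_le_inf_right _ hUV)
    have h2 : Nat.card U * U.relIndex V = Nat.card V := by
      rw [← Subgroup.relIndex_bot_left, ← Subgroup.relIndex_bot_left]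
      exact Subgroup.relIndex_mul_relIndex _ _ _ bot_le hUV
    have h3 : (U ⊓ C).relIndex (V ⊓ C) ≤ U.relIndex V := by
      have e : (U ⊓ C).relIndex (V ⊓ C) = U.relIndex (V ⊓ C) := by
        rw [← Subgroup.inf_relIndex_right (U ⊓ C), ← Subgroup.inf_relIndex_right U]
        congr 1
        rw [inf_assoc]
        congr 1
        exact inf_eq_right.2 inf_le_right
      rw [e]
      refine Subgroup.relIndex_le_of_le_right inf_le_left ?_
      intro h0
      rw [h0, mul_zero] at h2
      exact Nat.card_pos.ne' h2.symm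
    rw [← h1, ← h2]
    calc Nat.card ↥(U ⊓ C) * (U ⊓ C).relIndex (V ⊓ C) * Nat.card U
        ≤ Nat.card ↥(U ⊓ C) * U.relIndex V * Nat.card U :=
          Nat.mul_le_mul_right _ (Nat.mul_le_mul_left _ h3)
      _ = _ := by ring

end CfsgLib.GaloisAverage
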